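import Mathlib

/-!
# Even permutations with prescribed values, and the additive span of squares
-/

set_option autoImplicit false

namespace Cfsg.Lib.SLnPres

open Equiv

theorem exists_perm_map {n k : ℕ} {f g : Fin k → Fin n} (hf : Function.Injective f) (hg : Function.Injective g) :
    ∃ π : Perm (Fin n), ∀ i, π (f i) = g i := by
  classical
  let e : Set.range f ≃ Set.range g := (Equiv.ofInjective f hf).symm.trans (Equiv.ofInjective g hg)
  refine ⟨e.extendSubtype, fun i => ?_⟩
  have := Equiv.extendSubtype_apply_of_mem e (f i) ⟨i, rfl⟩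
  rw [this]
  show ((Equiv.ofInjective g hg) ((Equiv.ofInjective f hf).symm ⟨f i, ⟨i, rfl⟩⟩) : Fin n) = g i
  rw [Equiv.ofInjective_symm_apply, Equiv.ofInjective_apply]

/-- The fixed points. -/
def q {n : ℕ} (hn : 4 ≤ n) : Fin 4 → Fin n := Fin.castLE hn

theorem q_inj {n : ℕ} (hn : 4 ≤ n) : Function.Injective (q hn) := Fin.castLE_injective hn

theorem q_ne {n : ℕ} (hn : 4 ≤ n) {a b : Fin 4} (h : a ≠ b) : q hn a ≠ q hn b := (q_inj hn).ne h

theorem vec2_inj {α : Type*} {a b : α} (h : a ≠ b) : Function.Injective ![a, b] := by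
  intro i j; fin_cases i <;> fin_cases j <;> simp_all [eq_comm]

theorem vec3_inj {α : Type*} {a b c : α} (hab : a ≠ b) (hbc : b ≠ c) (hac : a ≠ c) :
    Function.Injective ![a, b, c] := by
  intro i j; fin_cases i <;> fin_cases j <;> simp_all [eq_comm]

theorem vec4_inj {α : Type*} {a b c d : α} (hab : a ≠ b) (hac : a ≠ c) (had : a ≠ d) (hbc : b ≠ c) (hbd : b ≠ d)
    (hcd : c ≠ d) : Function.Injective ![a, b, c, d] := by
  intro i j; fin_cases i <;> fin_cases j <;> simp_all [eq_comm]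

theorem even_or_swap {n : ℕ} (π : Perm (Fin n)) {a b : Fin n} (hab : a ≠ b) :
    π ∈ alternatingGroup (Fin n) ∨ π * swap a b ∈ alternatingGroup (Fin n) := by
  rcases Int.units_eq_one_or (Perm.sign π) with h | h
  · exact Or.inl (Perm.mem_alternatingGroup.2 h)
  · right
    rw [Perm.mem_alternatingGroup, map_mul, h, Perm.sign_swap hab]; rfl

theorem exists_others : ∀ a b : Fin 4, a ≠ b → ∃ c d : Fin 4, c ≠ d ∧ c ≠ a ∧ c ≠ b ∧ d ≠ a ∧ d ≠ b := by decide

/-- An even permutation with two prescribed values. -/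
theorem exists_even_pair {n : ℕ} (hn : 4 ≤ n) {a b : Fin 4} (hab : a ≠ b) {i j : Fin n} (hij : i ≠ j) :
    ∃ π : alternatingGroup (Fin n), (π : Perm (Fin n)) (q hn a) = i ∧ (π : Perm (Fin n)) (q hn b) = j := by
  obtain ⟨π, hπ⟩ := exists_perm_map (f := ![q hn a, q hn b]) (g := ![i, j]) (vec2_inj (q_ne hn hab)) (vec2_inj hij)
  have h0 : π (q hn a) = i := hπ 0
  have h1 : π (q hn b) = j := hπ 1
  obtain ⟨c, d, hcd, hca, hcb, hda, hdb⟩ := exists_others a b hab
  rcases even_or_swap π (q_ne hn hcd) with h | h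
  · exact ⟨⟨π, h⟩, h0, h1⟩
  · refine ⟨⟨_, h⟩, ?_, ?_⟩
    · show π (swap (q hn c) (q hn d) (q hn a)) = i
      rw [swap_apply_of_ne_of_ne (q_ne hn hca.symm) (q_ne hn hda.symm), h0]
    · show π (swap (q hn c) (q hn d) (q hn b)) = j
      rw [swap_apply_of_ne_of_ne (q_ne hn hcb.symm) (q_ne hn hdb.symm), h1]

/-- Even permutations carry a triple, or the triple with the last two exchanged. -/
theorem exists_even_triple {n : ℕ} (hn : 4 ≤ n) {a b c : Fin 4} (hab : a ≠ b) (hbc : b ≠ c) (hac : a ≠ c)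
    {i j l : Fin n} (hij : i ≠ j) (hjl : j ≠ l) (hil : i ≠ l) :
    ∃ π : alternatingGroup (Fin n),
      ((π : Perm (Fin n)) (q hn a) = i ∧ (π : Perm (Fin n)) (q hn b) = j ∧ (π : Perm (Fin n)) (q hn c) = l) ∨
      ((π : Perm (Fin n)) (q hn a) = i ∧ (π : Perm (Fin n)) (q hn c) = j ∧ (π : Perm (Fin n)) (q hn b) = l) := by
  obtain ⟨π, hπ⟩ := exists_perm_map (f := ![q hn a, q hn b, q hn c]) (g := ![i, j, l])
    (vec3_inj (q_ne hn hab) (q_ne hn hbc) (q_ne hn hac)) (vec3_inj hij hjl hil)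
  have h0 : π (q hn a) = i := hπ 0
  have h1 : π (q hn b) = j := hπ 1
  have h2 : π (q hn c) = l := hπ 2
  rcases even_or_swap π (q_ne hn hbc) with h | h
  · exact ⟨⟨π, h⟩, Or.inl ⟨h0, h1, h2⟩⟩
  · refine ⟨⟨_, h⟩, Or.inr ⟨?_, ?_, ?_⟩⟩
    · show π (swap (q hn b) (q hn c) (q hn a)) = i
      rw [swap_apply_of_ne_of_ne (q_ne hn hab) (q_ne hn hac), h0]
    · show π (swap (q hn b) (q hn c) (q hn c)) = j
      rw [swap_apply_right, h1]
    · show π (swap (q hn b) (q hn c) (q hn b)) = l
      rw [swap_apply_left, h2]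

/-- The squares span additively. -/
theorem squares_span {F : Type*} [Field F] [Finite F] (K : AddSubgroup F) (h : ∀ x : F, x ≠ 0 → x * x ∈ K) :
    K = ⊤ := by
  classical
  haveI := Fintype.ofFinite F
  let S : Finset F := Finset.univ.filter fun y => ∃ x, x * x = y
  have hS : ∀ y ∈ S, y ∈ K := fun y hy => by
    obtain ⟨x, rfl⟩ := (Finset.mem_filter.1 hy).2
    by_cases hx : x = 0
    · rw [hx, mul_zero]; exact K.zero_mem
    · exact h x hx
  have hcount : Fintype.card F + 1 ≤ 2 * S.card := by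
    have h1 := Finset.card_le_mul_card_image (f := fun x : F => x * x) (Finset.univ.erase (0 : F)) 2 (fun b _ => by
      refine (Finset.card_le_card (t := (Polynomial.nthRoots 2 b).toFinset) fun x hx => ?_).trans
        ((Multiset.toFinset_card_le _).trans (Polynomial.card_nthRoots 2 b))
      rw [Multiset.mem_toFinset, Polynomial.mem_nthRoots two_pos, pow_two]
      exact (Finset.mem_filter.1 hx).2)
    have h2 : ((Finset.univ.erase (0 : F)).image fun x => x * x) ⊆ S.erase 0 := fun y hy => by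
      obtain ⟨x, hx, rfl⟩ := Finset.mem_image.1 hy
      exact Finset.mem_erase.2 ⟨mul_self_ne_zero.2 (Finset.ne_of_mem_erase hx), by simp [S]⟩
    have h3 := Finset.card_le_card h2
    have h0 : (0 : F) ∈ S := by simp [S]
    rw [Finset.card_erase_of_mem (Finset.mem_univ _), Finset.card_univ] at h1
    rw [Finset.card_erase_of_mem h0] at h3
    have := Finset.card_pos.2 ⟨_, h0⟩
    omega
  have hle : S.card ≤ Nat.card K := by
    rw [← Fintype.card_coe S, ← Nat.card_eq_fintype_card]
    exact Nat.card_le_card_of_injective (fun y => (⟨y.1, hS _ y.2⟩ : K))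
      fun a b e => Subtype.ext (congrArg (fun z : K => (z : F)) e)
  have hmul := K.card_mul_index
  rw [Nat.card_eq_fintype_card (α := F)] at hmul
  have hi : K.index ≠ 0 := AddSubgroup.index_ne_zero_of_finite
  rw [← AddSubgroup.index_eq_one]
  by_contra hne
  have : Nat.card K * 2 ≤ Nat.card K * K.index := Nat.mul_le_mul le_rfl (by omega)
  omega

end Cfsg.Lib.SLnPres
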