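import Cfsg.Agent.Known.SLnPres.Main
import Cfsg.Agent.Known.SL2Pres.Main
import Cfsg.Agent.Known.SL3Pres.Main
import Cfsg.Agent.S2402
import Cfsg.Agent.S2403

/-!
# Padding, central quotients and two generators
-/

set_option autoImplicit false
set_option linter.unusedSectionVars false

namespace Cfsg.Lib.SLnPres

open Equiv
open Matrix (SpecialLinearGroup ProjectiveSpecialLinearGroup)

/-- A presentation of `T` on `a` generators with at most `r` relations. -/
def PresN (T : Type*) [Group T] (a r : ℕ) : Prop :=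
  ∃ R : Finset (FreeGroup (Fin a)), R.card ≤ r ∧ Nonempty (PresentedGroup (↑R : Set (FreeGroup (Fin a))) ≃* T)

theorem PresN.pad {T : Type*} [Group T] {a r : ℕ} (h : PresN T a r) {m : ℕ} (ham : a ≤ m) :
    PresN T m (r + (m - a)) := by
  classical
  obtain ⟨R, hR, ⟨e⟩⟩ := h
  let t : Fin m → T := fun j => if hj : j.val < a then e (PresentedGroup.of ⟨j, hj⟩) else 1
  let w : Fin a → FreeGroup (Fin m) := fun i => FreeGroup.of (Fin.castLE ham i)
  let v : Fin m → FreeGroup (Fin a) := fun j => if hj : j.val < a then FreeGroup.of ⟨j, hj⟩ else 1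
  have hw : ∀ i, FreeGroup.lift t (w i) = e (PresentedGroup.of i) := fun i => by
    simp only [w, FreeGroup.lift_apply_of, t]
    rw [dif_pos (show (Fin.castLE ham i).val < a from i.isLt)]; rfl
  have hv : ∀ j, e (PresentedGroup.mk _ (v j)) = t j := fun j => by
    simp only [v, t]
    split_ifs with hj
    · rfl
    · simp
  obtain ⟨e', -⟩ := AltPres.subst R e t w v hw hv
    (R.image (FreeGroup.lift w) ∪ (Finset.univ.filter fun j : Fin m => a ≤ j.val).image FreeGroup.of)
    (fun x hx => Finset.mem_union_left _ (Finset.mem_image_of_mem _ hx))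
    (fun j => by
      by_cases hj : j.val < a
      · left; simp [v, w, hj]
      · right
        simp only [v, dif_neg hj, map_one, inv_one, mul_one]
        exact Finset.mem_union_right _ (Finset.mem_image_of_mem _ (Finset.mem_filter.2 ⟨Finset.mem_univ _, by omega⟩)))
    (fun x hx => by
      rcases Finset.mem_union.1 hx with h | h
      · obtain ⟨y, hy, rfl⟩ := Finset.mem_image.1 h
        rw [AltPres.map_lift, show (⇑(FreeGroup.lift t) ∘ w) = ⇑e.toMonoidHom ∘ PresentedGroup.of from funext hw,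
          ← AltPres.map_lift, lift_eq_mk, PresentedGroup.one_of_mem (rels := (↑R : Set (FreeGroup (Fin a)))) hy, map_one]
      · obtain ⟨j, hj, rfl⟩ := Finset.mem_image.1 h
        have := (Finset.mem_filter.1 hj).2
        simp only [FreeGroup.lift_apply_of, t]
        rw [dif_neg (by omega)])
  refine ⟨_, (Finset.card_union_le _ _).trans (add_le_add (Finset.card_image_le.trans hR)
    (Finset.card_image_le.trans (le_of_eq ?_))), ⟨e'⟩⟩
  have : (Finset.univ.filter fun j : Fin m => a ≤ j.val).map ⟨Fin.val, Fin.val_injective⟩ = Finset.Ico a m := by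
    ext x
    simp only [Finset.mem_map, Finset.mem_filter, Finset.mem_univ, true_and, Finset.mem_Ico, Function.Embedding.coeFn_mk]
    constructor
    · rintro ⟨j, hj, rfl⟩; exact ⟨hj, j.isLt⟩
    · rintro ⟨h1, h2⟩; exact ⟨⟨x, h2⟩, h1, rfl⟩
  rw [← Finset.card_map ⟨Fin.val, Fin.val_injective⟩, this, Nat.card_Ico]

theorem PresN.mono {T : Type*} [Group T] {a r r' : ℕ} (h : PresN T a r) (hr : r ≤ r') : PresN T a r' := by
  obtain ⟨R, hR, e⟩ := h
  exact ⟨R, hR.trans hr, e⟩

theorem PresN.quotient {T : Type*} [Group T] {a r : ℕ} (h : PresN T a r) (Z : Subgroup T) [Z.Normal] (z : T)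
    (hz : Z = Subgroup.zpowers z) : PresN (T ⧸ Z) a (r + 1) := by
  classical
  obtain ⟨R, hR, ⟨e⟩⟩ := h
  obtain ⟨v, hv⟩ := PresentedGroup.mk_surjective _ (e.symm z)
  let R' := insert v R
  let φ : PresentedGroup (↑R' : Set (FreeGroup (Fin a))) →* T ⧸ Z :=
    PresentedGroup.toGroup (f := fun i => QuotientGroup.mk' Z (e (PresentedGroup.of i))) fun x hx => by
      rw [show (fun i => QuotientGroup.mk' Z (e (PresentedGroup.of i))) =
        ⇑((QuotientGroup.mk' Z).comp e.toMonoidHom) ∘ PresentedGroup.of from rfl, ← AltPres.map_lift, lift_eq_mk]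
      simp only [R', Finset.coe_insert, Set.mem_insert_iff, Finset.mem_coe] at hx
      rcases hx with rfl | hx
      · show QuotientGroup.mk' Z (e (PresentedGroup.mk _ x)) = 1
        rw [hv, MulEquiv.apply_symm_apply, QuotientGroup.mk'_apply, QuotientGroup.eq_one_iff, hz]
        exact Subgroup.mem_zpowers z
      · rw [PresentedGroup.one_of_mem (rels := (↑R : Set (FreeGroup (Fin a)))) hx, map_one]
  have hof : ∀ x ∈ (↑R : Set (FreeGroup (Fin a))),
      FreeGroup.lift (PresentedGroup.of (rels := (↑R' : Set (FreeGroup (Fin a))))) x = 1 := fun x hx => by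
    rw [lift_eq_mk]; exact PresentedGroup.one_of_mem (by simp [R', Finset.mem_coe.1 hx])
  let g : T →* PresentedGroup (↑R' : Set (FreeGroup (Fin a))) :=
    (PresentedGroup.toGroup hof).comp e.symm.toMonoidHom
  have hgz : g z = 1 := by
    show PresentedGroup.toGroup hof (e.symm z) = 1
    rw [← hv, ← lift_eq_mk, AltPres.map_lift,
      show (⇑(PresentedGroup.toGroup hof) ∘ PresentedGroup.of) = PresentedGroup.of from
        funext fun i => PresentedGroup.toGroup.of _, lift_eq_mk]
    exact PresentedGroup.one_of_mem (by simp [R'])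
  let ψ : T ⧸ Z →* PresentedGroup (↑R' : Set (FreeGroup (Fin a))) := QuotientGroup.lift Z g (by
    rw [hz, Subgroup.zpowers_le]; exact hgz)
  refine ⟨R', (Finset.card_insert_le _ _).trans (by omega), ⟨MonoidHom.toMulEquiv φ ψ ?_ ?_⟩⟩
  · refine PresentedGroup.ext fun i => ?_
    show ψ (φ (PresentedGroup.of i)) = PresentedGroup.of i
    rw [PresentedGroup.toGroup.of]
    show g (e (PresentedGroup.of i)) = _
    show PresentedGroup.toGroup hof (e.symm (e (PresentedGroup.of i))) = _
    rw [MulEquiv.symm_apply_apply, PresentedGroup.toGroup.of]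
  · refine QuotientGroup.monoidHom_ext Z ?_
    have : φ.comp (PresentedGroup.toGroup hof) = (QuotientGroup.mk' Z).comp e.toMonoidHom :=
      PresentedGroup.ext fun i => by
        show φ (PresentedGroup.toGroup hof (PresentedGroup.of i)) = _
        rw [PresentedGroup.toGroup.of]
        exact PresentedGroup.toGroup.of _
    refine MonoidHom.ext fun t => ?_
    show φ (PresentedGroup.toGroup hof (e.symm t)) = QuotientGroup.mk' Z t
    have h' := DFunLike.congr_fun this (e.symm t)
    simpa using h'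

theorem PresN.pair {T : Type*} [Group T] {a r : ℕ} (h : PresN T a r) (x y : T)
    (hgen : Subgroup.closure ({x, y} : Set T) = ⊤) : PresN T 2 (r + 2) := by
  classical
  obtain ⟨R, hR, ⟨e⟩⟩ := h
  let t : Fin 2 → T := ![x, y]
  have hw := fun i : Fin a => AltPres.exists_word t (by rw [← hgen]; congr 1; simp [t, Matrix.range_cons, Set.pair_comm])
    (e (PresentedGroup.of i))
  choose w hw using hw
  have hv := fun j : Fin 2 => PresentedGroup.mk_surjective (↑R : Set (FreeGroup (Fin a))) (e.symm (t j))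
  choose v hv using hv
  have hv' : ∀ j, e (PresentedGroup.mk _ (v j)) = t j := fun j => by rw [hv, MulEquiv.apply_symm_apply]
  have hwv : ∀ u, FreeGroup.lift t (FreeGroup.lift w u) = e (PresentedGroup.mk _ u) := fun u => by
    rw [AltPres.map_lift, show (⇑(FreeGroup.lift t) ∘ w) = ⇑e.toMonoidHom ∘ PresentedGroup.of from funext hw,
      ← AltPres.map_lift, lift_eq_mk]
    rfl
  obtain ⟨e', -⟩ := AltPres.subst R e t w v hw hv'
    (R.image (FreeGroup.lift w) ∪ Finset.univ.image fun j => FreeGroup.of j * (FreeGroup.lift w (v j))⁻¹)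
    (fun r hr => Finset.mem_union_left _ (Finset.mem_image_of_mem _ hr))
    (fun j => Or.inr (Finset.mem_union_right _ (Finset.mem_image_of_mem _ (Finset.mem_univ j))))
    (fun r hr => by
      rcases Finset.mem_union.1 hr with h | h
      · obtain ⟨r, hr', rfl⟩ := Finset.mem_image.1 h
        rw [hwv, PresentedGroup.one_of_mem (rels := (↑R : Set (FreeGroup (Fin a)))) hr', map_one]
      · obtain ⟨j, -, rfl⟩ := Finset.mem_image.1 h
        rw [map_mul, map_inv, FreeGroup.lift_apply_of, hwv, hv', mul_inv_cancel])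
  exact ⟨_, (Finset.card_union_le _ _).trans (add_le_add (Finset.card_image_le.trans hR)
    (Finset.card_image_le.trans (by simp))), ⟨e'⟩⟩

variable {F : Type*} [Field F] [Fintype F]

theorem sl_four_five (n : ℕ) (hn : n = 4 ∨ n = 5) :
    PresN (SpecialLinearGroup (Fin n) F) 5 (if n = 4 then 18 else 21) := by
  rcases hn with rfl | rfl
  · obtain ⟨R2, hR2, ⟨e2⟩⟩ := AltPres.small_alt_four
    obtain ⟨R3, hR3, ⟨e3⟩⟩ := PresN.pad (T := alternatingGroup (Fin 4)) ⟨R2, hR2, ⟨e2⟩⟩ (show 2 ≤ 3 by norm_num)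
    obtain ⟨R, hR, e⟩ := main (n := 4) (by norm_num) (F := F) R3 e3 hR3
    exact ⟨R, hR.trans (by norm_num), e⟩
  · obtain ⟨R3, e3, hR3, -⟩ := AltPres.pres3_alt_fin 5 (by norm_num)
    obtain ⟨R, hR, e⟩ := main (n := 5) (by norm_num) (F := F) R3 e3 hR3
    exact ⟨R, hR.trans (by norm_num), e⟩

theorem sl_seven (n : ℕ) (hn : 4 ≤ n) : PresN (SpecialLinearGroup (Fin n) F) 7 25 := by
  by_cases h : n = 4 ∨ n = 5
  · exact ((sl_four_five (F := F) n h).pad (show 5 ≤ 7 by norm_num)).mono (by split_ifs <;> norm_num)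
  · obtain ⟨R3, e3, hR3, -⟩ := AltPres.pres3_alt_fin n (by omega)
    obtain ⟨R, hR, e⟩ := main hn (F := F) R3 e3 hR3
    refine PresN.mono (PresN.pad (T := SpecialLinearGroup (Fin n) F) (a := 5) ⟨R, hR, e⟩ (show 5 ≤ 7 by norm_num)) ?_
    split_ifs <;> omega

theorem center_cyclic (n : ℕ) (hn : 1 ≤ n) :
    ∃ z, Subgroup.center (SpecialLinearGroup (Fin n) F) = Subgroup.zpowers z := by
  haveI : Nonempty (Fin n) := ⟨⟨0, hn⟩⟩
  haveI : NeZero n := ⟨by omega⟩
  haveI : IsCyclic (rootsOfUnity (Fintype.card (Fin n)) F) := inferInstance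
  haveI : IsCyclic (Subgroup.center (SpecialLinearGroup (Fin n) F)) :=
    isCyclic_of_surjective _ (Matrix.SpecialLinearGroup.center_equiv_rootsOfUnity' (⟨0, hn⟩ : Fin n)).symm.surjective
  obtain ⟨⟨z, hz⟩, hgen⟩ := IsCyclic.exists_generator (α := Subgroup.center (SpecialLinearGroup (Fin n) F))
  refine ⟨z, le_antisymm (fun x hx => ?_) (Subgroup.zpowers_le.2 hz)⟩
  obtain ⟨k, hk⟩ := Subgroup.mem_zpowers_iff.1 (hgen ⟨x, hx⟩)
  exact Subgroup.mem_zpowers_iff.2 ⟨k, congrArg Subtype.val hk⟩

theorem psl_of_sl {a r : ℕ} (n : ℕ) (hn : 1 ≤ n) (h : PresN (SpecialLinearGroup (Fin n) F) a r) :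
    PresN (ProjectiveSpecialLinearGroup (Fin n) F) a (r + 1) := by
  obtain ⟨z, hz⟩ := center_cyclic (F := F) n hn
  exact h.quotient _ z hz

/-- The monomial cycle. -/
theorem exists_cycle (n : ℕ) : ∃ w : SpecialLinearGroup (Fin (n + 1)) F,
    (w : Matrix (Fin (n + 1)) (Fin (n + 1)) F) =
      Matrix.of (fun i j => if j.val = i.val + 1 then 1 else if i.val = n ∧ j.val = 0 then (-1) ^ n else 0) := by
  refine ⟨⟨_, ?_⟩, rfl⟩
  have e : (Matrix.of (fun i j : Fin (n + 1) => if j.val = i.val + 1 then (1 : F) else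
      if i.val = n ∧ j.val = 0 then (-1) ^ n else 0)) =
      Matrix.diagonal (fun i => Cfsg.Lib.SLTwoGen.cc n F i) * (finRotate (n + 1)).permMatrix F := by
    ext i j
    rw [Cfsg.Lib.SLTwoGen.w_apply rfl, Matrix.diagonal_mul]
    simp only [Equiv.Perm.permMatrix, PEquiv.toMatrix_apply, Equiv.toPEquiv_apply, Option.mem_some_iff,
      finRotate_succ_apply, mul_ite, mul_one, mul_zero, eq_comm]
  rw [e, Matrix.det_mul, Matrix.det_diagonal, Matrix.det_permutation, sign_finRotate,
    Finset.prod_eq_single (Fin.last n)]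
  · simp [Cfsg.Lib.SLTwoGen.cc, ← mul_pow]
  · intro i _ hi
    have : i.val ≠ n := fun h => hi (Fin.ext h)
    simp [Cfsg.Lib.SLTwoGen.cc, this]
  · simp

theorem psl_two_gen (n : ℕ) (hn : 2 ≤ n) :
    ∃ x y : ProjectiveSpecialLinearGroup (Fin n) F, Subgroup.closure ({x, y} : Set _) = ⊤ := by
  obtain ⟨m, rfl⟩ : ∃ m, n = m + 1 := ⟨n - 1, by omega⟩
  have hne : (0 : Fin (m + 1)) ≠ 1 := fun e => by
    have := congrArg Fin.val e
    rw [Fin.val_one', Fin.val_zero, Nat.mod_eq_of_lt (by omega)] at this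
    omega
  obtain ⟨w, hw⟩ := exists_cycle (F := F) m
  obtain ⟨a, b, hab⟩ : ∃ a b : SpecialLinearGroup (Fin (m + 1)) F,
      Subgroup.closure ({a, b} : Set _) ⊔ Subgroup.center _ = ⊤ := by
    by_cases h3 : 3 < Fintype.card F
    · obtain ⟨k, hk⟩ := IsCyclic.exists_generator (α := Fˣ)
      let h : SpecialLinearGroup (Fin (m + 1)) F := StN.dg (Pi.mulSingle 0 k * Pi.mulSingle 1 k⁻¹) (StN.prod_two 0 1 k)
      refine ⟨h, SpecialLinearGroup.transvection hne 1 * w,
        Cfsg.Agent.S2402.result h3 m (by omega) k hk h _ w ?_ rfl hw⟩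
      show Matrix.diagonal _ = _
      congr 1; funext i
      have v0 : i = 0 ↔ i.val = 0 := Fin.ext_iff
      have v1 : i = 1 ↔ i.val = 1 := by rw [Fin.ext_iff, Fin.val_one', Nat.mod_eq_of_lt (by omega)]
      simp only [Pi.mul_apply, Pi.mulSingle_apply, v0, v1]
      split_ifs <;> simp_all
    · exact ⟨SpecialLinearGroup.transvection hne 1, w,
        Cfsg.Agent.S2403.result (by omega) m (by omega) _ w rfl hw⟩
  refine ⟨QuotientGroup.mk' _ a, QuotientGroup.mk' _ b, ?_⟩
  have := congrArg (Subgroup.map (QuotientGroup.mk' (Subgroup.center (SpecialLinearGroup (Fin (m + 1)) F)))) hab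
  rw [Subgroup.map_sup, QuotientGroup.map_mk'_self, sup_bot_eq, MonoidHom.map_closure, Set.image_pair,
    Subgroup.map_top_of_surjective _ (QuotientGroup.mk'_surjective _)] at this
  exact this

theorem psl_eighty (n : ℕ) (hn : 2 ≤ n) : PresN (ProjectiveSpecialLinearGroup (Fin n) F) 2 80 := by
  obtain ⟨x, y, hxy⟩ := psl_two_gen (F := F) n hn
  obtain ⟨a, r, hr, h⟩ : ∃ a r, r ≤ 78 ∧ PresN (ProjectiveSpecialLinearGroup (Fin n) F) a r := by
    rcases (show n = 2 ∨ n = 3 ∨ 4 ≤ n by omega) with rfl | rfl | h4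
    · exact ⟨3, 9, by norm_num, SL2Pres.main.2.1⟩
    · exact ⟨4, 15, by norm_num, psl_of_sl 3 (by norm_num) (SL3Pres.main (F := F))⟩
    · exact ⟨7, 26, by norm_num, psl_of_sl n (by omega) (sl_seven n h4)⟩
  exact (h.pair x y hxy).mono (by omega)

end Cfsg.Lib.SLnPres
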