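import Cfsg.Agent.Known.SLnPres.Choice
import Cfsg.Agent.Known.SL2Pres.Words

/-!
# Root groups and torus of type A from an alternating group, one root element and one torus element
-/

set_option autoImplicit false
set_option linter.unusedSectionVars false

open scoped commutatorElement

namespace Cfsg.Lib.SLnPres

open Equiv
open SL2Pres (cj)

variable {n : ℕ} (hn : 4 ≤ n) {G : Type*} [Group G]

/-- Conjugation by a chosen even permutation with prescribed values. -/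
noncomputable def conjAt (ι : alternatingGroup (Fin n) →* G) (a b : Fin 4) (x : G) (i j : Fin n) : G :=
  if h : a ≠ b ∧ i ≠ j then
    ι (exists_even_pair hn h.1 h.2).choose * x * (ι (exists_even_pair hn h.1 h.2).choose)⁻¹
  else 1

theorem conjAt_eq (ι : alternatingGroup (Fin n) →* G) {a b : Fin 4} (hab : a ≠ b) (x : G)
    (hx : ∀ ρ : alternatingGroup (Fin n), (ρ : Perm (Fin n)) (q hn a) = q hn a →
      (ρ : Perm (Fin n)) (q hn b) = q hn b → Commute (ι ρ) x)
    (π : alternatingGroup (Fin n)) :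
    conjAt hn ι a b x ((π : Perm (Fin n)) (q hn a)) ((π : Perm (Fin n)) (q hn b)) = ι π * x * (ι π)⁻¹ := by
  have hne : (π : Perm (Fin n)) (q hn a) ≠ (π : Perm (Fin n)) (q hn b) :=
    (π : Perm (Fin n)).injective.ne (q_ne hn hab)
  rw [conjAt, dif_pos ⟨hab, hne⟩]
  obtain ⟨h1, h2⟩ := (exists_even_pair hn hab hne).choose_spec
  set σ := (exists_even_pair hn hab hne).choose
  have hc := hx (π⁻¹ * σ) (by
      show (π : Perm (Fin n))⁻¹ ((σ : Perm (Fin n)) (q hn a)) = _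
      rw [h1]; simp) (by
      show (π : Perm (Fin n))⁻¹ ((σ : Perm (Fin n)) (q hn b)) = _
      rw [h2]; simp)
  rw [map_mul, map_inv] at hc
  calc ι σ * x * (ι σ)⁻¹ = ι π * (((ι π)⁻¹ * ι σ) * x) * ((ι π)⁻¹ * ι σ)⁻¹ * (ι π)⁻¹ := by group
    _ = _ := by rw [hc.eq]; group

theorem conjAt_equiv (ι : alternatingGroup (Fin n) →* G) {a b : Fin 4} (hab : a ≠ b) (x : G)
    (hx : ∀ ρ : alternatingGroup (Fin n), (ρ : Perm (Fin n)) (q hn a) = q hn a →
      (ρ : Perm (Fin n)) (q hn b) = q hn b → Commute (ι ρ) x)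
    (ρ : alternatingGroup (Fin n)) {i j : Fin n} (hij : i ≠ j) :
    ι ρ * conjAt hn ι a b x i j * (ι ρ)⁻¹ =
      conjAt hn ι a b x ((ρ : Perm (Fin n)) i) ((ρ : Perm (Fin n)) j) := by
  obtain ⟨π, rfl, rfl⟩ := exists_even_pair hn hab hij
  have e := conjAt_eq hn ι hab x hx (ρ * π)
  rw [show ((ρ * π : alternatingGroup (Fin n)) : Perm (Fin n)) = (ρ : Perm (Fin n)) * π from rfl, Perm.mul_apply,
    Perm.mul_apply] at e
  rw [e, conjAt_eq hn ι hab x hx π, map_mul]
  group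

theorem conjAt_base (ι : alternatingGroup (Fin n) →* G) {a b : Fin 4} (hab : a ≠ b) (x : G)
    (hx : ∀ ρ : alternatingGroup (Fin n), (ρ : Perm (Fin n)) (q hn a) = q hn a →
      (ρ : Perm (Fin n)) (q hn b) = q hn b → Commute (ι ρ) x) :
    conjAt hn ι a b x (q hn a) (q hn b) = x := by
  simpa using conjAt_eq hn ι hab x hx 1

variable (ι : alternatingGroup (Fin n) →* G) (h u : G)

/-- The torus elements. -/
noncomputable def H (i j : Fin n) : G := conjAt hn ι 0 2 h i j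

/-- The root elements at exponent `k`. -/
noncomputable def V (k : ℤ) (i j : Fin n) : G := conjAt hn ι 0 1 (cj h u k) i j

/-- The seeds and the torus relations. -/
structure Data : Prop where
  stabH : ∀ ρ : alternatingGroup (Fin n), (ρ : Perm (Fin n)) (q hn 0) = q hn 0 →
    (ρ : Perm (Fin n)) (q hn 2) = q hn 2 → Commute (ι ρ) h
  stabU : ∀ ρ : alternatingGroup (Fin n), (ρ : Perm (Fin n)) (q hn 0) = q hn 0 →
    (ρ : Perm (Fin n)) (q hn 1) = q hn 1 → Commute (ι ρ) u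
  flip : H hn ι h (q hn 2) (q hn 0) = h⁻¹
  hh : Commute h (H hn ι h (q hn 0) (q hn 3))
  cocycle : h * H hn ι h (q hn 2) (q hn 3) * H hn ι h (q hn 3) (q hn 0) = 1
  h03 : H hn ι h (q hn 0) (q hn 3) * u * (H hn ι h (q hn 0) (q hn 3))⁻¹ = h * u * h⁻¹
  next : H hn ι h (q hn 2) (q hn 1) * u * (H hn ι h (q hn 2) (q hn 1))⁻¹ = h * u * h⁻¹
  row : Commute (V hn ι h u 0 (q hn 0) (q hn 1)) (V hn ι h u 0 (q hn 0) (q hn 2))
  col : Commute (V hn ι h u 0 (q hn 0) (q hn 1)) (V hn ι h u 0 (q hn 2) (q hn 1))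
  prod : ⁅V hn ι h u 0 (q hn 0) (q hn 1), V hn ι h u 0 (q hn 1) (q hn 2)⁆ = V hn ι h u 0 (q hn 0) (q hn 2)
  disj : Commute (V hn ι h u 0 (q hn 0) (q hn 1)) (V hn ι h u 0 (q hn 2) (q hn 3))
  extra : n = 4 →
    ⁅V hn ι h u 0 (q hn 0) (q hn 2), V hn ι h u 0 (q hn 2) (q hn 1)⁆ = V hn ι h u 0 (q hn 0) (q hn 1) ∧
    Commute (V hn ι h u 0 (q hn 0) (q hn 1)) (V hn ι h u 0 (q hn 3) (q hn 2))

namespace Data

variable {hn ι h u} (D : Data hn ι h u)
include D

theorem H_eq (π : alternatingGroup (Fin n)) :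
    H hn ι h ((π : Perm (Fin n)) (q hn 0)) ((π : Perm (Fin n)) (q hn 2)) = ι π * h * (ι π)⁻¹ :=
  conjAt_eq hn ι (by decide) h D.stabH π

theorem H_equiv (ρ : alternatingGroup (Fin n)) {i j : Fin n} (hij : i ≠ j) :
    ι ρ * H hn ι h i j * (ι ρ)⁻¹ = H hn ι h ((ρ : Perm (Fin n)) i) ((ρ : Perm (Fin n)) j) :=
  conjAt_equiv hn ι (by decide) h D.stabH ρ hij

theorem H_base : H hn ι h (q hn 0) (q hn 2) = h := conjAt_base hn ι (by decide) h D.stabH

theorem H_symm {i j : Fin n} (hij : i ≠ j) : H hn ι h j i = (H hn ι h i j)⁻¹ := by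
  obtain ⟨π, rfl, rfl⟩ := exists_even_pair hn (show (0 : Fin 4) ≠ 2 by decide) hij
  rw [D.H_eq, ← D.H_equiv π (q_ne hn (show (2 : Fin 4) ≠ 0 by decide)), D.flip]
  group

theorem H_triple {i j l : Fin n} (hij : i ≠ j) (hjl : j ≠ l) (hil : i ≠ l) :
    H hn ι h i j * H hn ι h j l * H hn ι h l i = 1 := by
  have hq : ∀ {a b : Fin 4}, a ≠ b → q hn a ≠ q hn b := fun e => q_ne hn e
  have key : ∀ π : alternatingGroup (Fin n), ∀ x y z : G, x * y * z = 1 →
      (ι π * x * (ι π)⁻¹) * (ι π * y * (ι π)⁻¹) * (ι π * z * (ι π)⁻¹) = 1 := fun π x y z e => by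
    calc _ = ι π * (x * y * z) * (ι π)⁻¹ := by group
      _ = 1 := by rw [e]; group
  obtain ⟨π, ⟨h0, h2, h3⟩ | ⟨h0, h3, h2⟩⟩ := exists_even_triple hn (show (0 : Fin 4) ≠ 2 by decide)
    (show (2 : Fin 4) ≠ 3 by decide) (show (0 : Fin 4) ≠ 3 by decide) hij hjl hil
  · have e := key π _ _ _ D.cocycle
    rwa [← D.H_eq, D.H_equiv π (hq (by decide)), D.H_equiv π (hq (by decide)), h0, h2, h3] at e
  · have e0 : H hn ι h (q hn 0) (q hn 3) * H hn ι h (q hn 3) (q hn 2) * H hn ι h (q hn 2) (q hn 0) = 1 := by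
      rw [D.H_symm (hq (show (3 : Fin 4) ≠ 0 by decide)), D.H_symm (hq (show (2 : Fin 4) ≠ 3 by decide)),
        D.H_symm (hq (show (0 : Fin 4) ≠ 2 by decide)), D.H_base, ← mul_inv_rev, ← mul_inv_rev, inv_eq_one,
        ← mul_assoc]
      exact D.cocycle
    have e := key π _ _ _ e0
    rwa [D.H_equiv π (hq (by decide)), D.H_equiv π (hq (by decide)), D.H_equiv π (hq (by decide)),
      h0, h2, h3] at e

theorem H_trans {i j l : Fin n} (hij : i ≠ j) (hjl : j ≠ l) (hil : i ≠ l) :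
    H hn ι h i l = H hn ι h i j * H hn ι h j l := by
  have e := eq_inv_of_mul_eq_one_left (D.H_triple hij hjl hil)
  rw [D.H_symm hil, inv_inv] at e
  exact e.symm

theorem H_head {i j l : Fin n} (hij : i ≠ j) (hil : i ≠ l) : Commute (H hn ι h i j) (H hn ι h i l) := by
  rcases eq_or_ne j l with rfl | hjl
  · exact Commute.refl _
  have hb : Commute (H hn ι h (q hn 0) (q hn 2)) (H hn ι h (q hn 0) (q hn 3)) := by rw [D.H_base]; exact D.hh
  obtain ⟨π, ⟨h0, h2, h3⟩ | ⟨h0, h3, h2⟩⟩ := exists_even_triple hn (show (0 : Fin 4) ≠ 2 by decide)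
    (show (2 : Fin 4) ≠ 3 by decide) (show (0 : Fin 4) ≠ 3 by decide) hij hjl hil
  all_goals
    have e := SL2Pres.commute_conj (g := ι π) hb
    rw [D.H_equiv π (q_ne hn (by decide)), D.H_equiv π (q_ne hn (by decide)), h0, h2, h3] at e
  · exact e
  · exact e.symm

theorem H_share {i j k l : Fin n} (hij : i ≠ j) (hkl : k ≠ l) (hs : k = i ∨ k = j ∨ l = i ∨ l = j) :
    Commute (H hn ι h i j) (H hn ι h k l) := by
  rcases hs with rfl | rfl | rfl | rfl
  · exact D.H_head hij hkl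
  · rw [D.H_symm hij.symm]; exact (D.H_head hij.symm hkl).inv_left
  · rw [D.H_symm hkl.symm]; exact (D.H_head hij hkl.symm).inv_right
  · rw [D.H_symm hij.symm, D.H_symm hkl.symm]; exact (D.H_head hij.symm hkl.symm).inv_left.inv_right

theorem H_comm {i j k l : Fin n} (hij : i ≠ j) (hkl : k ≠ l) : Commute (H hn ι h i j) (H hn ι h k l) := by
  by_cases hs : k = i ∨ k = j ∨ l = i ∨ l = j
  · exact D.H_share hij hkl hs
  simp only [not_or] at hs
  obtain ⟨h1, -, h3, -⟩ := hs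
  rw [D.H_trans h1 (Ne.symm h3) hkl]
  exact (D.H_share hij h1 (Or.inr (Or.inr (Or.inl rfl)))).mul_right
    (D.H_share hij (Ne.symm h3) (Or.inl rfl))

omit D in
/-- `g` shifts the exponents by `e`. -/
def Act (h u g : G) (e : ℤ) : Prop := ∀ k : ℤ, g * cj h u k * g⁻¹ = cj h u (k + e)

omit D in
theorem act_of {g : G} {e : ℤ} (hc : Commute g h) (hu : g * u * g⁻¹ = cj h u e) : Act h u g e := fun k => by
  calc g * cj h u k * g⁻¹ = (g * h ^ k) * u * (g * h ^ k)⁻¹ := by rw [cj]; group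
    _ = h ^ k * (g * u * g⁻¹) * (h ^ k)⁻¹ := by rw [(hc.zpow_right k).eq]; group
    _ = _ := by rw [hu, ← SL2Pres.cj_add]

omit D in
theorem Act.mul {g g' : G} {e e' : ℤ} (hg : Act h u g e) (hg' : Act h u g' e') : Act h u (g * g') (e + e') :=
  fun k => by
    rw [mul_inv_rev, show g * g' * cj h u k * (g'⁻¹ * g⁻¹) = g * (g' * cj h u k * g'⁻¹) * g⁻¹ by group, hg', hg,
      add_assoc, add_comm e' e]

omit D in
theorem Act.inv {g : G} {e : ℤ} (hg : Act h u g e) : Act h u g⁻¹ (-e) := fun k => by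
  have := hg (k + -e)
  rw [neg_add_cancel_right] at this
  rw [← this]; group

/-- The weight of an index against the root. -/
def w (hn : 4 ≤ n) (x : Fin n) : ℤ := if x = q hn 0 then 1 else if x = q hn 1 then -1 else 0

theorem act_two {x : Fin n} (hx : x ≠ q hn 2) : Act h u (H hn ι h (q hn 2) x) (-(w hn x)) := by
  have hq : ∀ {a b : Fin 4}, a ≠ b → q hn a ≠ q hn b := fun e => q_ne hn e
  have hh1 : Act h u h 1 := act_of (Commute.refl h) (by rw [SL2Pres.cj_one])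
  have h20 : Act h u (H hn ι h (q hn 2) (q hn 0)) (-1) := by rw [D.flip]; exact hh1.inv
  have hcomm : ∀ {a b : Fin n}, a ≠ b → Commute (H hn ι h a b) h := fun e => by
    have := D.H_comm e (hq (show (0 : Fin 4) ≠ 2 by decide))
    rwa [D.H_base] at this
  have h03 : Act h u (H hn ι h (q hn 0) (q hn 3)) 1 :=
    act_of (hcomm (hq (by decide))) (by rw [D.h03, SL2Pres.cj_one])
  by_cases h0 : x = q hn 0
  · subst h0; simpa [w] using h20
  by_cases h1 : x = q hn 1
  · subst h1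
    rw [w, if_neg h0, if_pos rfl, neg_neg]
    exact act_of (hcomm (hq (by decide))) (by rw [D.next, SL2Pres.cj_one])
  rw [w, if_neg h0, if_neg h1, neg_zero]
  -- every torus element from the first point to a third one shifts like the first
  have h0x : H hn ι h (q hn 0) x * u * (H hn ι h (q hn 0) x)⁻¹ = h * u * h⁻¹ := by
    by_cases h3 : x = q hn 3
    · rw [h3]; exact D.h03
    have hρ : swap (q hn 2) (q hn 3) * swap (q hn 3) x ∈ alternatingGroup (Fin n) := by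
      rw [Perm.mem_alternatingGroup, map_mul, Perm.sign_swap (hq (by decide)), Perm.sign_swap (Ne.symm h3)]; rfl
    let ρ : alternatingGroup (Fin n) := ⟨_, hρ⟩
    have r0 : (ρ : Perm (Fin n)) (q hn 0) = q hn 0 := by
      show swap (q hn 2) (q hn 3) (swap (q hn 3) x (q hn 0)) = _
      rw [swap_apply_of_ne_of_ne (hq (by decide)) (Ne.symm h0), swap_apply_of_ne_of_ne (hq (by decide)) (hq (by decide))]
    have r1 : (ρ : Perm (Fin n)) (q hn 1) = q hn 1 := by
      show swap (q hn 2) (q hn 3) (swap (q hn 3) x (q hn 1)) = _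
      rw [swap_apply_of_ne_of_ne (hq (by decide)) (Ne.symm h1), swap_apply_of_ne_of_ne (hq (by decide)) (hq (by decide))]
    have r2 : (ρ : Perm (Fin n)) (q hn 2) = q hn 3 := by
      show swap (q hn 2) (q hn 3) (swap (q hn 3) x (q hn 2)) = _
      rw [swap_apply_of_ne_of_ne (hq (by decide)) (Ne.symm hx), swap_apply_left]
    have r3 : (ρ : Perm (Fin n)) (q hn 3) = x := by
      show swap (q hn 2) (q hn 3) (swap (q hn 3) x (q hn 3)) = _
      rw [swap_apply_left, swap_apply_of_ne_of_ne hx h3]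
    have hu := D.stabU ρ r0 r1
    have e := congrArg (fun y => ι ρ * y * (ι ρ)⁻¹) D.h03
    have eu : ι ρ * u * (ι ρ)⁻¹ = u := by rw [hu.eq, mul_inv_cancel_right]
    have cc : ∀ y : G, ι ρ * (y * u * y⁻¹) * (ι ρ)⁻¹ = (ι ρ * y * (ι ρ)⁻¹) * u * (ι ρ * y * (ι ρ)⁻¹)⁻¹ :=
      fun y => by
        calc ι ρ * (y * u * y⁻¹) * (ι ρ)⁻¹
            = (ι ρ * y * (ι ρ)⁻¹) * (ι ρ * u * (ι ρ)⁻¹) * (ι ρ * y * (ι ρ)⁻¹)⁻¹ := by group
          _ = _ := by rw [eu]
    simp only [cc] at e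
    rw [D.H_equiv ρ (hq (by decide)), ← D.H_eq ρ, r0, r2, r3] at e
    rw [e, D.h03]
  rw [D.H_trans (hq (show (2 : Fin 4) ≠ 0 by decide)) (Ne.symm h0) (Ne.symm hx)]
  have := h20.mul (act_of (hcomm (Ne.symm h0)) (by rw [h0x, SL2Pres.cj_one]) : Act h u (H hn ι h (q hn 0) x) 1)
  simpa using this

theorem H_act {a b : Fin n} (hab : a ≠ b) : Act h u (H hn ι h a b) (w hn a - w hn b) := by
  have hw2 : w hn (q hn 2) = 0 := by
    rw [w, if_neg (q_ne hn (by decide)), if_neg (q_ne hn (by decide))]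
  by_cases ha : a = q hn 2
  · subst ha
    have := D.act_two (Ne.symm hab)
    rwa [hw2, zero_sub]
  by_cases hb : b = q hn 2
  · subst hb
    rw [D.H_symm (Ne.symm hab), hw2, sub_zero]
    simpa using (D.act_two ha).inv
  rw [D.H_trans ha (Ne.symm hb) hab, D.H_symm (Ne.symm ha)]
  have := (D.act_two ha).inv.mul (D.act_two hb)
  rwa [neg_neg, ← sub_eq_add_neg] at this

theorem stab_cj (k : ℤ) (ρ : alternatingGroup (Fin n)) (h0 : (ρ : Perm (Fin n)) (q hn 0) = q hn 0)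
    (h1 : (ρ : Perm (Fin n)) (q hn 1) = q hn 1) : Commute (ι ρ) (cj h u k) := by
  set g := H hn ι h (q hn 0) ((ρ : Perm (Fin n)) (q hn 2)) with hg
  have e : ι ρ * h * (ι ρ)⁻¹ = g := by rw [hg, ← D.H_eq ρ, h0]
  have hne : q hn 0 ≠ (ρ : Perm (Fin n)) (q hn 2) := by
    rw [← h0]; exact (ρ : Perm (Fin n)).injective.ne (q_ne hn (by decide))
  have hne1 : (ρ : Perm (Fin n)) (q hn 2) ≠ q hn 1 := by
    rw [← h1]; exact (ρ : Perm (Fin n)).injective.ne (q_ne hn (by decide))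
  have ha : Act h u g 1 := by
    have := D.H_act hne
    rwa [w, w, if_pos rfl, if_neg hne.symm, if_neg hne1, sub_zero] at this
  have hk : ∀ k : ℤ, g ^ k * u * (g ^ k)⁻¹ = cj h u k := by
    intro k
    induction k using Int.induction_on with
    | zero => rw [SL2Pres.cj_zero]; group
    | succ k ih =>
      rw [← ha (k : ℤ), ← ih]; group
    | pred k ih =>
      have h' := ha.inv (-(k : ℤ))
      rw [show -(k : ℤ) + -1 = -k - 1 by ring, ← ih] at h'
      rw [← h']; group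
  have eu : ι ρ * u * (ι ρ)⁻¹ = u := by rw [(D.stabU ρ h0 h1).eq, mul_inv_cancel_right]
  have : ι ρ * cj h u k * (ι ρ)⁻¹ = cj h u k := by
    calc ι ρ * cj h u k * (ι ρ)⁻¹
        = (ι ρ * h * (ι ρ)⁻¹) ^ k * (ι ρ * u * (ι ρ)⁻¹) * ((ι ρ * h * (ι ρ)⁻¹) ^ k)⁻¹ := by
          rw [conj_zpow, cj]; group
      _ = _ := by rw [e, eu, hk]
  exact mul_inv_eq_iff_eq_mul.1 this

theorem V_eq (k : ℤ) (π : alternatingGroup (Fin n)) :
    V hn ι h u k ((π : Perm (Fin n)) (q hn 0)) ((π : Perm (Fin n)) (q hn 1)) = ι π * cj h u k * (ι π)⁻¹ :=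
  conjAt_eq hn ι (by decide) _ (D.stab_cj k) π

theorem V_equiv (k : ℤ) (ρ : alternatingGroup (Fin n)) {i j : Fin n} (hij : i ≠ j) :
    ι ρ * V hn ι h u k i j * (ι ρ)⁻¹ = V hn ι h u k ((ρ : Perm (Fin n)) i) ((ρ : Perm (Fin n)) j) :=
  conjAt_equiv hn ι (by decide) _ (D.stab_cj k) ρ hij

theorem V_base (k : ℤ) : V hn ι h u k (q hn 0) (q hn 1) = cj h u k :=
  conjAt_base hn ι (by decide) _ (D.stab_cj k)

/-- The exponent shift of `H a b` on the root `(i, j)`. -/
def wt (i j a : Fin n) : ℤ := if a = i then 1 else if a = j then -1 else 0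

theorem H_V (k : ℤ) {a b i j : Fin n} (hab : a ≠ b) (hij : i ≠ j) :
    H hn ι h a b * V hn ι h u k i j * (H hn ι h a b)⁻¹ = V hn ι h u (k + (wt i j a - wt i j b)) i j := by
  obtain ⟨π, rfl, rfl⟩ := exists_even_pair hn (show (0 : Fin 4) ≠ 1 by decide) hij
  have hne : (π : Perm (Fin n))⁻¹ a ≠ (π : Perm (Fin n))⁻¹ b := (π : Perm (Fin n))⁻¹.injective.ne hab
  have hw : ∀ x, w hn ((π : Perm (Fin n))⁻¹ x) =
      wt ((π : Perm (Fin n)) (q hn 0)) ((π : Perm (Fin n)) (q hn 1)) x := by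
    intro x
    have hi : ∀ y : Fin n, (π : Perm (Fin n))⁻¹ x = y ↔ x = (π : Perm (Fin n)) y := fun y => by
      constructor
      · rintro rfl; simp
      · rintro rfl; simp
    simp only [w, wt, hi]
  have e := D.H_equiv π hne
  rw [show (π : Perm (Fin n)) ((π : Perm (Fin n))⁻¹ a) = a by simp,
    show (π : Perm (Fin n)) ((π : Perm (Fin n))⁻¹ b) = b by simp] at e
  rw [D.V_eq, D.V_eq, ← e, ← hw, ← hw, ← D.H_act hne k]
  group

theorem H_V' (k : ℤ) {a b i j : Fin n} (hab : a ≠ b) (hij : i ≠ j) {k' : ℤ}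
    (hk : k' = k + (wt i j a - wt i j b)) :
    H hn ι h a b * V hn ι h u k i j * (H hn ι h a b)⁻¹ = V hn ι h u k' i j := by
  rw [hk]; exact D.H_V k hab hij

end Data

end Cfsg.Lib.SLnPres
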