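import Cfsg.Agent.Known.SLnPres.Target
import Cfsg.Agent.Known.StN.Kernel
import Cfsg.Agent.Known.SL2Pres.Field
import Cfsg.Agent.Known.SL2Pres.Odd
import Cfsg.Agent.Known.SL3Pres.Field
import Cfsg.Agent.Classical.SL

/-!
# A bounded presentation of the special linear group
-/

set_option autoImplicit false
set_option linter.unusedSectionVars false

open scoped commutatorElement

namespace Cfsg.Lib.SLnPres

open Equiv Polynomial
open Matrix (SpecialLinearGroup)
open SL2Pres (cj wd)

variable {n : ℕ} (hn : 4 ≤ n)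

/-- Conjugation by a chosen word. -/
noncomputable def conjW {W : Type*} [Group W] (w : alternatingGroup (Fin n) → W) (a b : Fin 4) (x : W)
    (i j : Fin n) : W :=
  if h : a ≠ b ∧ i ≠ j then
    w (exists_even_pair hn h.1 h.2).choose * x * (w (exists_even_pair hn h.1 h.2).choose)⁻¹
  else 1

theorem map_conjW {W G : Type*} [Group W] [Group G] (φ : W →* G) (w : alternatingGroup (Fin n) → W)
    (ι : alternatingGroup (Fin n) →* G) (hw : ∀ π, φ (w π) = ι π) (a b : Fin 4) (x : W) (i j : Fin n) :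
    φ (conjW hn w a b x i j) = conjAt hn ι a b (φ x) i j := by
  rw [conjW, conjAt]
  split_ifs with h
  · simp [map_mul, hw]
  · simp

section Model

variable {F : Type*} [Field F]

theorem conjAt_T (a b : Fin 4) (hab : a ≠ b) (t : F) {i j : Fin n} (hij : i ≠ j) :
    conjAt hn (permSL (F := F)) a b (StN.T (q hn a) (q hn b) t) i j = StN.T i j t := by
  rw [conjAt, dif_pos ⟨hab, hij⟩, permSL_T _ (q_ne hn hab)]
  obtain ⟨h1, h2⟩ := (exists_even_pair hn hab hij).choose_spec
  rw [h1, h2]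

theorem H_model (s : Fˣ) {i j : Fin n} (hij : i ≠ j) :
    H hn (permSL (F := F)) (dij (q hn 0) (q hn 2) s) i j = dij i j s := by
  rw [H, conjAt, dif_pos ⟨(by decide : (0 : Fin 4) ≠ 2), hij⟩, permSL_dij]
  obtain ⟨h1, h2⟩ := (exists_even_pair hn (show (0 : Fin 4) ≠ 2 by decide) hij).choose_spec
  rw [h1, h2]

theorem dij_scale (s : Fˣ) (a b : Fin 4) (hab : a ≠ b) (t : F) :
    dij (q hn a) (q hn b) s * StN.T (q hn 0) (q hn 1) t * (dij (q hn a) (q hn b) s)⁻¹ =
      StN.T (q hn 0) (q hn 1)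
        (((if a = 0 then (s : F) else 1) * (if b = 0 then ((s⁻¹ : Fˣ) : F) else 1)) *
          ((if a = 1 then (s : F) else 1) * (if b = 1 then ((s⁻¹ : Fˣ) : F) else 1))⁻¹ * t) := by
  rw [dij_T _ _ _ (q_ne hn (by decide))]
  congr 1
  simp only [Pi.mul_apply, Pi.mulSingle_apply, (q_inj hn).eq_iff, Units.val_mul, apply_ite Units.val, Units.val_one,
    eq_comm]

theorem dij_conj (s : Fˣ) (t : F) :
    dij (q hn 0) (q hn 2) s * StN.T (q hn 0) (q hn 1) t * (dij (q hn 0) (q hn 2) s)⁻¹ =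
      (StN.T (q hn 0) (q hn 1) ((s : F) * t) : SpecialLinearGroup (Fin n) F) := by
  rw [dij_scale hn s 0 2 (by decide)]; simp

theorem cj_model (s : Fˣ) (k : ℕ) :
    cj (dij (q hn 0) (q hn 2) s) (StN.T (q hn 0) (q hn 1) (1 : F)) k =
      (StN.T (q hn 0) (q hn 1) ((s : F) ^ k) : SpecialLinearGroup (Fin n) F) := by
  induction k with
  | zero => rw [Nat.cast_zero, SL2Pres.cj_zero, pow_zero]
  | succ k ih =>
    rw [show ((k + 1 : ℕ) : ℤ) = 1 + k by push_cast; ring, SL2Pres.cj_add, zpow_one, ih, dij_conj, pow_succ']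

end Model

/-- The relation words. -/
noncomputable def dataWords {W : Type*} [Group W] (w : alternatingGroup (Fin n) → W) (h u : W) : List W :=
  let H' := conjW hn w 0 2 h
  let U' := conjW hn w 0 1 u
  [H' (q hn 2) (q hn 0) * h,
   h * H' (q hn 0) (q hn 3) * (H' (q hn 0) (q hn 3) * h)⁻¹,
   h * H' (q hn 2) (q hn 3) * H' (q hn 3) (q hn 0),
   H' (q hn 0) (q hn 3) * u * (H' (q hn 0) (q hn 3))⁻¹ * (h * u * h⁻¹)⁻¹,
   H' (q hn 2) (q hn 1) * u * (H' (q hn 2) (q hn 1))⁻¹ * (h * u * h⁻¹)⁻¹,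
   U' (q hn 0) (q hn 1) * U' (q hn 0) (q hn 2) * (U' (q hn 0) (q hn 2) * U' (q hn 0) (q hn 1))⁻¹,
   U' (q hn 0) (q hn 1) * U' (q hn 2) (q hn 1) * (U' (q hn 2) (q hn 1) * U' (q hn 0) (q hn 1))⁻¹,
   ⁅U' (q hn 0) (q hn 1), U' (q hn 1) (q hn 2)⁆ * (U' (q hn 0) (q hn 2))⁻¹,
   U' (q hn 0) (q hn 1) * U' (q hn 2) (q hn 3) * (U' (q hn 2) (q hn 3) * U' (q hn 0) (q hn 1))⁻¹] ++
  (if n = 4 then
    [⁅U' (q hn 0) (q hn 2), U' (q hn 2) (q hn 1)⁆ * (U' (q hn 0) (q hn 1))⁻¹,
     U' (q hn 0) (q hn 1) * U' (q hn 3) (q hn 2) * (U' (q hn 3) (q hn 2) * U' (q hn 0) (q hn 1))⁻¹]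
  else [])

theorem dataWords_iff {W G : Type*} [Group W] [Group G] (Φ : W →* G) (w : alternatingGroup (Fin n) → W)
    (ι : alternatingGroup (Fin n) →* G) (hw : ∀ π, Φ (w π) = ι π) (hW uW : W) (h u : G) (hh : Φ hW = h)
    (hu : Φ uW = u) :
    (∀ r ∈ dataWords hn w hW uW, Φ r = 1) ↔
      (H hn ι h (q hn 2) (q hn 0) = h⁻¹ ∧ Commute h (H hn ι h (q hn 0) (q hn 3)) ∧
      h * H hn ι h (q hn 2) (q hn 3) * H hn ι h (q hn 3) (q hn 0) = 1 ∧
      H hn ι h (q hn 0) (q hn 3) * u * (H hn ι h (q hn 0) (q hn 3))⁻¹ = h * u * h⁻¹ ∧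
      H hn ι h (q hn 2) (q hn 1) * u * (H hn ι h (q hn 2) (q hn 1))⁻¹ = h * u * h⁻¹ ∧
      Commute (V hn ι h u 0 (q hn 0) (q hn 1)) (V hn ι h u 0 (q hn 0) (q hn 2)) ∧
      Commute (V hn ι h u 0 (q hn 0) (q hn 1)) (V hn ι h u 0 (q hn 2) (q hn 1)) ∧
      ⁅V hn ι h u 0 (q hn 0) (q hn 1), V hn ι h u 0 (q hn 1) (q hn 2)⁆ = V hn ι h u 0 (q hn 0) (q hn 2) ∧
      Commute (V hn ι h u 0 (q hn 0) (q hn 1)) (V hn ι h u 0 (q hn 2) (q hn 3)) ∧
      (n = 4 →
        ⁅V hn ι h u 0 (q hn 0) (q hn 2), V hn ι h u 0 (q hn 2) (q hn 1)⁆ = V hn ι h u 0 (q hn 0) (q hn 1) ∧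
        Commute (V hn ι h u 0 (q hn 0) (q hn 1)) (V hn ι h u 0 (q hn 3) (q hn 2)))) := by
  have eH : ∀ i j, Φ (conjW hn w 0 2 hW i j) = H hn ι h i j := fun i j => by
    rw [map_conjW hn Φ w ι hw, hh]; rfl
  have eU : ∀ i j, Φ (conjW hn w 0 1 uW i j) = V hn ι h u 0 i j := fun i j => by
    rw [map_conjW hn Φ w ι hw, hu, V, SL2Pres.cj_zero]
  by_cases h4 : n = 4
  · simp only [dataWords, if_pos h4, List.cons_append, List.nil_append, List.forall_mem_cons, List.not_mem_nil,
      false_imp_iff, implies_true, and_true, map_mul, map_inv, map_commutatorElement, eH, eU, hh, hu, mul_inv_eq_one,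
      mul_eq_one_iff_eq_inv (b := h), commute_iff_eq, h4, forall_const, if_true]
  · simp only [dataWords, if_false, List.append_nil, List.forall_mem_cons, List.not_mem_nil,
      false_imp_iff, implies_true, and_true, map_mul, map_inv, map_commutatorElement, eH, eU, hh, hu, mul_inv_eq_one,
      mul_eq_one_iff_eq_inv (b := h), commute_iff_eq, h4]

theorem five_cases : ∀ i : Fin 5, (∃ j : Fin 3, Fin.castLE (by norm_num : 3 ≤ 5) j = i) ∨ i = 3 ∨ i = 4 := by decide

theorem lift_eq_mk {α : Type*} (rels : Set (FreeGroup α)) :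
    FreeGroup.lift (PresentedGroup.of (rels := rels)) = PresentedGroup.mk rels :=
  FreeGroup.ext_hom _ _ fun i => by rw [FreeGroup.lift_apply_of]; rfl

variable {F : Type*} [Field F] [Fintype F]

include hn in
/-- The special linear group from a presentation of the alternating group. -/
theorem main {k : ℕ} (R3 : Finset (FreeGroup (Fin 3)))
    (e3 : PresentedGroup (↑R3 : Set (FreeGroup (Fin 3))) ≃* alternatingGroup (Fin n)) (hk : R3.card ≤ k) :
    ∃ R : Finset (FreeGroup (Fin 5)),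
      R.card ≤ k + 12 + (if n = 4 then 2 else if n = 5 then 2 else 4) ∧
      Nonempty (PresentedGroup (↑R : Set (FreeGroup (Fin 5))) ≃* SpecialLinearGroup (Fin n) F) := by
  classical
  obtain ⟨p, hcp⟩ := CharP.exists F
  haveI := hcp
  haveI : Fact p.Prime := ⟨CharP.char_is_prime F p⟩
  obtain ⟨ω, hω, hgen, -⟩ := SL2Pres.exists_generator (F := F)
  obtain ⟨P, hP0, hP⟩ := SL2Pres.exists_int_poly p ω
  have hq : ∀ {a b : Fin 4}, a ≠ b → q hn a ≠ q hn b := fun e => q_ne hn e
  let emb : Fin 3 → Fin 5 := Fin.castLE (by omega)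
  have hw3 := fun π : alternatingGroup (Fin n) => PresentedGroup.mk_surjective _ (e3.symm π)
  choose w3 hw3 using hw3
  let wA : alternatingGroup (Fin n) → FreeGroup (Fin 5) := fun π => FreeGroup.map emb (w3 π)
  let wU : FreeGroup (Fin 5) := FreeGroup.of 3
  let wH : FreeGroup (Fin 5) := FreeGroup.of 4
  obtain ⟨LH, hLH, hLHfix, hLHgen⟩ := exists_stab_gens hn (hq (show (0 : Fin 4) ≠ 2 by decide))
  obtain ⟨LU, hLU, hLUfix, hLUgen⟩ := exists_stab_gens hn (hq (show (0 : Fin 4) ≠ 1 by decide))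
  let s : Fˣ := Units.mk0 ω hω
  let mh : SpecialLinearGroup (Fin n) F := dij (q hn 0) (q hn 2) s
  let mu : SpecialLinearGroup (Fin n) F := StN.T (q hn 0) (q hn 1) 1
  let em : Fin 3 → SpecialLinearGroup (Fin n) F := fun i => permSL (e3 (PresentedGroup.of i))
  let mat : Fin 5 → SpecialLinearGroup (Fin n) F := ![em 0, em 1, em 2, mu, mh]
  have hmat3 : mat ∘ emb = em := by funext i; fin_cases i <;> rfl
  have hmA : ∀ π, FreeGroup.lift mat (wA π) = permSL π := fun π => by
    show FreeGroup.lift mat (FreeGroup.map emb (w3 π)) = _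
    rw [AltPres.lift_map, hmat3,
      show em = ⇑((permSL (F := F)).comp e3.toMonoidHom) ∘ PresentedGroup.of from rfl, ← AltPres.map_lift,
      lift_eq_mk, hw3]
    simp
  have hmU : FreeGroup.lift mat wU = mu := by simp [wU, mat]
  have hmH : FreeGroup.lift mat wH = mh := by simp [wH, mat]
  -- a word in the root elements for the three-cycle
  let c : alternatingGroup (Fin n) := ⟨swap (q hn 0) (q hn 1) * swap (q hn 0) (q hn 2), by
    rw [Perm.mem_alternatingGroup, map_mul, Perm.sign_swap (hq (by decide)), Perm.sign_swap (hq (by decide))]; rfl⟩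
  let XW : Subgroup (FreeGroup (Fin 5)) := Subgroup.closure
    {w | ∃ (i j : Fin n) (k : ℕ), i ≠ j ∧ w = conjW hn wA 0 1 (cj wH wU k) i j}
  have hXW : ∀ i j : Fin n, i ≠ j → ∀ k : ℕ,
      FreeGroup.lift mat (conjW hn wA 0 1 (cj wH wU k) i j) = StN.T i j (ω ^ k) := fun i j hij k => by
    rw [map_conjW hn (FreeGroup.lift mat) wA permSL hmA, SL2Pres.cj_map, hmU, hmH, cj_model,
      conjAt_T hn 0 1 (by decide) _ hij]
    rfl
  have hXtop : XW.map (FreeGroup.lift mat) = ⊤ := by
    refine Cfsg.Lib.Classical.eq_top_of_transvection_mem _ fun i j hij t => ?_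
    rw [show SpecialLinearGroup.transvection hij t = StN.T i j t by rw [StN.T, dif_pos hij]]
    rcases eq_or_ne t 0 with rfl | ht
    · rw [StN.Rels.zero StN.rels_T hij]; exact one_mem _
    obtain ⟨k, rfl⟩ := hgen t ht
    exact ⟨_, Subgroup.subset_closure ⟨i, j, k, hij, rfl⟩, hXW i j hij k⟩
  obtain ⟨wc, hwcX, hwc⟩ : permSL (F := F) c ∈ XW.map (FreeGroup.lift mat) := by rw [hXtop]; trivial
  let L : List (FreeGroup (Fin 5)) := R3.toList.map (FreeGroup.map emb) ++ [wU ^ p, wd wH wU P] ++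
    LH.map (fun g => wA g * wH * (wH * wA g)⁻¹) ++ LU.map (fun g => wA g * wU * (wU * wA g)⁻¹) ++
    dataWords hn wA wH wU ++ [wA c * wc⁻¹]
  have hlen : L.length ≤ k + 12 + (if n = 4 then 2 else if n = 5 then 2 else 4) := by
    simp only [L, dataWords, List.length_append, List.length_map, List.length_cons, List.length_nil,
      Finset.length_toList]
    by_cases h4 : n = 4
    · simp only [if_pos h4, List.length_cons, List.length_nil] at hLH hLU ⊢
      omega
    by_cases h5 : n = 5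
    · simp only [if_neg h4, if_pos h5, List.length_nil] at hLH hLU ⊢
      omega
    · simp only [if_neg h4, if_neg h5, List.length_nil] at hLH hLU ⊢
      omega
  have hmodelL : ∀ r ∈ L, FreeGroup.lift mat r = 1 := by
    intro r hr
    simp only [L, List.mem_append, List.mem_map, List.mem_cons, List.not_mem_nil, or_false, Finset.mem_toList] at hr
    have hTadd : ∀ x y : F, (StN.T (q hn 0) (q hn 1) (x + y) : SpecialLinearGroup (Fin n) F) =
        StN.T (q hn 0) (q hn 1) x * StN.T (q hn 0) (q hn 1) y := fun x y =>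
      (StN.rels_T.add _ _ (hq (by decide)) x y).symm
    rcases hr with ((((⟨r', hr', rfl⟩ | rfl | rfl) | ⟨g, hg, rfl⟩) | ⟨g, hg, rfl⟩) | hr) | rfl
    · rw [AltPres.lift_map, hmat3,
        show em = ⇑((permSL (F := F)).comp e3.toMonoidHom) ∘ PresentedGroup.of from rfl, ← AltPres.map_lift,
        lift_eq_mk, PresentedGroup.one_of_mem (rels := (↑R3 : Set (FreeGroup (Fin 3)))) hr', map_one]
    · rw [map_pow, hmU, ← zpow_natCast, SL2Pres.root_zpow hTadd, Int.cast_natCast, CharP.cast_eq_zero, zero_mul,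
        SL2Pres.root_zero hTadd]
    · rw [SL2Pres.wd_map, hmH, hmU, SL2Pres.wd_root hTadd (dij_conj hn s) P,
        show ((s : F)) = ω from rfl, hP0, SL2Pres.root_zero hTadd]
    · rw [map_mul, map_inv, mul_inv_eq_one, map_mul, map_mul, hmA, hmH, ← mul_inv_eq_iff_eq_mul, permSL_dij,
        (hLHfix g hg).1, (hLHfix g hg).2]
    · rw [map_mul, map_inv, mul_inv_eq_one, map_mul, map_mul, hmA, hmU, ← mul_inv_eq_iff_eq_mul,
        permSL_T _ (hq (by decide)), (hLUfix g hg).1, (hLUfix g hg).2]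
    · refine (dataWords_iff hn (FreeGroup.lift mat) wA permSL hmA wH wU mh mu hmH hmU).2 ?_ r hr
      have eV : ∀ i j : Fin n, i ≠ j → V hn (permSL (F := F)) mh mu 0 i j = StN.T i j 1 := fun i j hij => by
        rw [V, SL2Pres.cj_zero, conjAt_T hn 0 1 (by decide) _ hij]
      have R := StN.rels_T (n := n) (F := F)
      simp only [H_model hn s (hq (show (2 : Fin 4) ≠ 0 by decide)), H_model hn s (hq (show (0 : Fin 4) ≠ 3 by decide)),
        H_model hn s (hq (show (2 : Fin 4) ≠ 3 by decide)), H_model hn s (hq (show (3 : Fin 4) ≠ 0 by decide)),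
        H_model hn s (hq (show (2 : Fin 4) ≠ 1 by decide)),
        eV _ _ (hq (show (0 : Fin 4) ≠ 1 by decide)), eV _ _ (hq (show (0 : Fin 4) ≠ 2 by decide)),
        eV _ _ (hq (show (2 : Fin 4) ≠ 1 by decide)), eV _ _ (hq (show (1 : Fin 4) ≠ 2 by decide)),
        eV _ _ (hq (show (2 : Fin 4) ≠ 3 by decide)), eV _ _ (hq (show (3 : Fin 4) ≠ 2 by decide)), mh]
      refine ⟨dij_symm _ _ _, dij_comm _ _ _ _ _ _, ?_, ?_, ?_,
        R.disj _ _ _ _ (hq (by decide)) (hq (by decide)) (hq (by decide)) (hq (by decide)) _ _,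
        R.disj _ _ _ _ (hq (by decide)) (hq (by decide)) (hq (by decide)) (hq (by decide)) _ _,
        by simpa using R.comm (q hn 0) (q hn 1) (q hn 2) (hq (by decide)) (hq (by decide)) (hq (by decide)) 1 1,
        R.disj _ _ _ _ (hq (by decide)) (hq (by decide)) (hq (by decide)) (hq (by decide)) _ _,
        fun _ => ⟨by simpa using R.comm (q hn 0) (q hn 2) (q hn 1) (hq (by decide)) (hq (by decide)) (hq (by decide)) 1 1,
          R.disj _ _ _ _ (hq (by decide)) (hq (by decide)) (hq (by decide)) (hq (by decide)) _ _⟩⟩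
      · rw [dij_mul, dij_mul, dij_self]
      · rw [dij_scale hn s 0 3 (by decide), dij_scale hn s 0 2 (by decide)]; simp
      · rw [dij_scale hn s 2 1 (by decide), dij_scale hn s 0 2 (by decide)]; simp
    · rw [map_mul, map_inv, mul_inv_eq_one, hmA, hwc]
  refine ⟨L.toFinset, (List.toFinset_card_le L).trans hlen, ?_⟩
  let rels : Set (FreeGroup (Fin 5)) := ↑L.toFinset
  have hrel : ∀ r ∈ L, FreeGroup.lift (PresentedGroup.of (rels := rels)) r = 1 := fun r hr => by
    rw [lift_eq_mk]; exact PresentedGroup.one_of_mem (by simpa [rels] using hr)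
  set g : Fin 5 → PresentedGroup rels := PresentedGroup.of with hg
  have hι : ∀ r ∈ (↑R3 : Set (FreeGroup (Fin 3))), FreeGroup.lift (g ∘ emb) r = 1 := fun r hr => by
    rw [← AltPres.lift_map]
    exact hrel _ (by simp only [L, List.mem_append, List.mem_map, Finset.mem_toList]
                     exact Or.inl (Or.inl (Or.inl (Or.inl (Or.inl ⟨r, hr, rfl⟩)))))
  let ι : alternatingGroup (Fin n) →* PresentedGroup rels :=
    (PresentedGroup.toGroup hι).comp e3.symm.toMonoidHom
  have hgA : ∀ π, FreeGroup.lift g (wA π) = ι π := fun π => by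
    show FreeGroup.lift g (FreeGroup.map emb (w3 π)) = PresentedGroup.toGroup hι (e3.symm π)
    rw [← hw3, ← lift_eq_mk, AltPres.lift_map, AltPres.map_lift]
    congr 2
  have hgU : FreeGroup.lift g wU = g 3 := FreeGroup.lift_apply_of ..
  have hgH : FreeGroup.lift g wH = g 4 := FreeGroup.lift_apply_of ..
  have hstab : ∀ (M : List (alternatingGroup (Fin n))) (y : FreeGroup (Fin 5)),
      (∀ x ∈ M, wA x * y * (y * wA x)⁻¹ ∈ L) →
      ∀ ρ ∈ Subgroup.closure {x | x ∈ M}, Commute (ι ρ) (FreeGroup.lift g y) := by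
    intro M y hM ρ hρ
    have : Subgroup.closure {x | x ∈ M} ≤ (Subgroup.centralizer {FreeGroup.lift g y}).comap ι := by
      rw [Subgroup.closure_le]
      intro x hx
      show ι x ∈ Subgroup.centralizer _
      rw [Subgroup.mem_centralizer_singleton_iff]
      have := hrel _ (hM x hx)
      rw [map_mul, map_inv, mul_inv_eq_one, map_mul, map_mul, hgA] at this
      exact this
    exact Subgroup.mem_centralizer_singleton_iff.1 (this hρ)
  obtain ⟨d1, d2, d3, d4, d5, d6, d7, d8, d9, d10⟩ :=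
    (dataWords_iff hn (FreeGroup.lift g) wA ι hgA wH wU (g 4) (g 3) hgH hgU).1 fun r hr => hrel r (by
      simp only [L, List.mem_append]; exact Or.inl (Or.inr hr))
  have D : Data hn ι (g 4) (g 3) :=
    { stabH := fun ρ h0 h2 => by
        rw [← hgH]
        exact hstab LH wH (fun x hx => by
          simp only [L, List.mem_append, List.mem_map]; exact Or.inl (Or.inl (Or.inl (Or.inr ⟨x, hx, rfl⟩))))
          ρ (hLHgen ρ h0 h2)
      stabU := fun ρ h0 h1 => by
        rw [← hgU]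
        exact hstab LU wU (fun x hx => by
          simp only [L, List.mem_append, List.mem_map]; exact Or.inl (Or.inl (Or.inr ⟨x, hx, rfl⟩)))
          ρ (hLUgen ρ h0 h1)
      flip := d1, hh := d2, cocycle := d3, h03 := d4, next := d5
      row := d6, col := d7, prod := d8, disj := d9, extra := d10 }
  have hup : g 3 ^ p = 1 := by
    have := hrel (wU ^ p) (by simp [L])
    rwa [map_pow, hgU] at this
  have hPu : wd (g 4) (g 3) P = 1 := by
    have := hrel (wd wH wU P) (by simp [L])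
    rwa [SL2Pres.wd_map, hgH, hgU] at this
  obtain ⟨φ, hadd, hone, hconj, -⟩ :=
    SL2Pres.exists_root_hom p ω (SL3Pres.gen_surjective hgen) P hP D.commute_cj hup hPu
  have hzpow : ∀ k : ℤ, φ (ω ^ k) = cj (g 4) (g 3) k := by
    intro k
    induction k using Int.induction_on with
    | zero => rw [zpow_zero, hone, SL2Pres.cj_zero]
    | succ k ih =>
      rw [show (k : ℤ) + 1 = 1 + k by ring, SL2Pres.cj_add, zpow_one, ← ih, hconj, zpow_add₀ hω, zpow_one]
    | pred k ih =>
      have e : g 4 * φ (ω ^ (-(k : ℤ) - 1)) * (g 4)⁻¹ = cj (g 4) (g 3) (-(k : ℤ)) := by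
        rw [hconj, ← ih, ← zpow_one_add₀ hω, add_sub_cancel]
      have e' : g 4 * cj (g 4) (g 3) (-(k : ℤ) - 1) * (g 4)⁻¹ = cj (g 4) (g 3) (-(k : ℤ)) := by
        conv_rhs => rw [show -(k : ℤ) = 1 + (-(k : ℤ) - 1) by ring, SL2Pres.cj_add, zpow_one]
      exact mul_left_cancel (mul_right_cancel (e.trans e'.symm))
  have hpow : ∀ k : ℕ, φ (ω ^ k) = cj (g 4) (g 3) k := fun k => by rw [← hzpow, zpow_natCast]
  have hR : StN.Rels (X hn ι φ) := X_rels hω hgen hadd hpow D
  have hVX : ∀ (i j : Fin n), i ≠ j → ∀ k : ℤ, V hn ι (g 4) (g 3) k i j = X hn ι φ i j (ω ^ k) := by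
    intro i j hij k
    obtain ⟨π, rfl, rfl⟩ := exists_even_pair hn (show (0 : Fin 4) ≠ 1 by decide) hij
    rw [D.V_eq, X_eq hω hgen hadd hpow D, hzpow]
  -- generation
  set N := Subgroup.closure {x | ∃ (i j : Fin n) (t : F), i ≠ j ∧ x = X hn ι φ i j t} with hNdef
  have hXN : ∀ {i j : Fin n} (t : F), i ≠ j → X hn ι φ i j t ∈ N := fun t h =>
    Subgroup.subset_closure ⟨_, _, t, h, rfl⟩
  have hVN : ∀ {i j : Fin n} (k : ℤ), i ≠ j → V hn ι (g 4) (g 3) k i j ∈ N := fun k h => by
    rw [hVX _ _ h]; exact hXN _ h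
  have norm : ∀ x : PresentedGroup rels, (∀ (i j : Fin n) (t : F), i ≠ j → x * X hn ι φ i j t * x⁻¹ ∈ N) →
      ∀ y ∈ N, x * y * x⁻¹ ∈ N := by
    intro x hx y hy
    induction hy using Subgroup.closure_induction with
    | mem y hy => obtain ⟨i, j, t, hij, rfl⟩ := hy; exact hx i j t hij
    | one => simpa using one_mem N
    | mul a b _ _ ha hb => simpa using mul_mem ha hb
    | inv a _ ha => simpa [mul_assoc] using inv_mem ha
  have nι : ∀ π, ∀ y ∈ N, ι π * y * (ι π)⁻¹ ∈ N := fun π => norm _ fun i j t hij => by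
    rw [X_equiv hω hgen hadd hpow D t π hij]
    exact hXN _ ((π : Perm (Fin n)).injective.ne hij)
  have nH : ∀ {a b : Fin n}, a ≠ b → ∀ y ∈ N, H hn ι (g 4) a b * y * (H hn ι (g 4) a b)⁻¹ ∈ N := fun {a b} hab =>
    norm _ fun i j t hij => by
      rcases eq_or_ne t 0 with rfl | ht
      · rw [X_zero hω hgen hadd hpow D hij]; simpa using one_mem N
      obtain ⟨k, rfl⟩ := hgen t ht
      rw [X_pow hω hgen hadd hpow D hij, D.H_V k hab hij]
      exact hVN _ hij
  have hu3 : g 3 = V hn ι (g 4) (g 3) 0 (q hn 0) (q hn 1) := by rw [D.V_base, SL2Pres.cj_zero]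
  have hu3N : g 3 ∈ N := by rw [hu3]; exact hVN _ (hq (by decide))
  have hemb : ∀ i : Fin 3, g (emb i) = ι (e3 (PresentedGroup.of i)) := fun i => by
    show g (emb i) = PresentedGroup.toGroup hι (e3.symm (e3 (PresentedGroup.of i)))
    rw [MulEquiv.symm_apply_apply, PresentedGroup.toGroup.of]; rfl
  haveI hNn : N.Normal := by
    have key : ∀ w : FreeGroup (Fin 5), ∀ y ∈ N, FreeGroup.lift g w * y * (FreeGroup.lift g w)⁻¹ ∈ N := by
      intro w
      induction w using FreeGroup.induction_on with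
      | C1 => intro y hy; simpa using hy
      | of i =>
        intro y hy
        rw [FreeGroup.lift_apply_of]
        rcases five_cases i with
          ⟨j, rfl⟩ | rfl | rfl
        · show g (emb j) * y * (g (emb j))⁻¹ ∈ N
          rw [hemb]; exact nι _ y hy
        · exact mul_mem (mul_mem hu3N hy) (inv_mem hu3N)
        · have := nH (hq (show (0 : Fin 4) ≠ 2 by decide)) y hy
          rwa [D.H_base] at this
      | inv_of i _ =>
        intro y hy
        rw [map_inv, FreeGroup.lift_apply_of, inv_inv]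
        rcases five_cases i with
          ⟨j, rfl⟩ | rfl | rfl
        · show (g (emb j))⁻¹ * y * g (emb j) ∈ N
          rw [hemb]
          have := nι (e3 (PresentedGroup.of j))⁻¹ y hy
          rwa [map_inv, inv_inv] at this
        · exact mul_mem (mul_mem (inv_mem hu3N) hy) hu3N
        · have := nH (hq (show (2 : Fin 4) ≠ 0 by decide)) y hy
          rwa [D.flip, inv_inv] at this
      | mul a b ha hb =>
        intro y hy
        rw [map_mul, show FreeGroup.lift g a * FreeGroup.lift g b * y * (FreeGroup.lift g a * FreeGroup.lift g b)⁻¹ =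
          FreeGroup.lift g a * (FreeGroup.lift g b * y * (FreeGroup.lift g b)⁻¹) * (FreeGroup.lift g a)⁻¹ by group]
        exact ha _ (hb y hy)
    refine ⟨fun y hy x => ?_⟩
    obtain ⟨w, rfl⟩ := PresentedGroup.mk_surjective rels x
    rw [← lift_eq_mk]
    exact key w y hy
  have hwcN : FreeGroup.lift g wc ∈ N := by
    refine (Subgroup.closure_le (N.comap (FreeGroup.lift g))).2 ?_ hwcX
    rintro _ ⟨i, j, k, hij, rfl⟩
    show FreeGroup.lift g (conjW hn wA 0 1 (cj wH wU k) i j) ∈ N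
    rw [map_conjW hn (FreeGroup.lift g) wA ι hgA, SL2Pres.cj_map, hgH, hgU]
    exact hVN k hij
  have hιN : ∀ π, ι π ∈ N := by
    have hcN : ι c ∈ N := by
      have := hrel (wA c * wc⁻¹) (by simp [L])
      rw [map_mul, map_inv, mul_inv_eq_one, hgA] at this
      rw [this]; exact hwcN
    have htop := alt_closure_conj (N.comap ι) (hq (show (0 : Fin 4) ≠ 1 by decide)) (hq (show (1 : Fin 4) ≠ 2 by decide))
      (hq (show (0 : Fin 4) ≠ 2 by decide)) c rfl hcN
    intro π
    have hπ : π ∈ N.comap ι := by rw [htop]; trivial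
    exact hπ
  have hh4 : g 4 ∈ N := by
    let m := QuotientGroup.mk' N
    have hmι : ∀ π, m (ι π) = 1 := fun π => (QuotientGroup.eq_one_iff _).2 (hιN π)
    have hmH : ∀ {a b : Fin n}, a ≠ b → m (H hn ι (g 4) a b) = m (g 4) := fun {a b} hab => by
      obtain ⟨π, rfl, rfl⟩ := exists_even_pair hn (show (0 : Fin 4) ≠ 2 by decide) hab
      rw [D.H_eq, map_mul, map_mul, map_inv, hmι]; group
    have e2 := congrArg m D.flip
    rw [hmH (hq (by decide)), map_inv] at e2
    have e3' := congrArg m D.cocycle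
    rw [map_mul, map_mul, hmH (hq (by decide)), hmH (hq (by decide)), map_one] at e3'
    have e1 : m (g 4) = 1 := by
      calc m (g 4) = m (g 4) * m (g 4) * m (g 4) * (m (g 4) * m (g 4))⁻¹ := by group
        _ = 1 := by rw [e3', mul_eq_one_iff_eq_inv.2 e2]; group
    exact (QuotientGroup.eq_one_iff _).1 e1
  have htop : N = ⊤ := by
    rw [eq_top_iff, ← PresentedGroup.closure_range_of rels, Subgroup.closure_le]
    rintro _ ⟨i, rfl⟩
    rcases five_cases i with
      ⟨j, rfl⟩ | rfl | rfl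
    · show g (emb j) ∈ N
      rw [hemb]; exact hιN _
    · exact hu3N
    · exact hh4
  -- the map to the matrices
  let π₀ : PresentedGroup rels →* SpecialLinearGroup (Fin n) F :=
    PresentedGroup.toGroup (f := mat) (fun r hr => hmodelL r (by simpa [rels] using hr))
  have hπw : ∀ w, π₀ (FreeGroup.lift g w) = FreeGroup.lift mat w := fun w => by
    rw [AltPres.map_lift]; congr 2; funext i; exact PresentedGroup.toGroup.of _
  have hπX : ∀ i j : Fin n, i ≠ j → ∀ t : F, π₀ (X hn ι φ i j t) = StN.T i j t := by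
    intro i j hij t
    rcases eq_or_ne t 0 with rfl | ht
    · rw [X_zero hω hgen hadd hpow D hij, map_one, StN.Rels.zero StN.rels_T hij]
    obtain ⟨k, rfl⟩ := hgen t ht
    rw [X_pow hω hgen hadd hpow D hij, V, ← hgH, ← hgU, ← SL2Pres.cj_map,
      ← map_conjW hn (FreeGroup.lift g) wA ι hgA, hπw, hXW i j hij]
  have hinj : Function.Injective π₀ :=
    StN.kernel_eq_bot hR π₀ (fun i j h t => by rw [hπX i j h t, StN.coe_T h]) (by omega) htop
  have hsurj : Function.Surjective π₀ := by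
    rw [← MonoidHom.range_eq_top]
    refine Cfsg.Lib.Classical.eq_top_of_transvection_mem _ fun i j hij t => ⟨X hn ι φ i j t, ?_⟩
    rw [hπX i j hij t, StN.T, dif_pos hij]
  exact ⟨MulEquiv.ofBijective π₀ ⟨hinj, hsurj⟩⟩

end Cfsg.Lib.SLnPres
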