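import Cfsg.Agent.Known.SLnPres.Data
import Cfsg.Agent.Known.StN.Rels

/-!
# The Steinberg relations from four seeds
-/

set_option autoImplicit false
set_option linter.unusedSectionVars false

open scoped commutatorElement

namespace Cfsg.Lib.SLnPres

open Equiv
open SL2Pres (cj)

theorem line {P : ℤ → Prop} (h : ∀ i, P i ↔ P (i + 1)) (h0 : P 0) : ∀ i, P i := by
  intro i
  induction i using Int.induction_on with
  | zero => exact h0
  | succ k ih => exact (h _).1 ih
  | pred k ih => exact (h _).2 (by rwa [sub_add_cancel])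

theorem plane {P : ℤ → ℤ → Prop} (ha : ∀ a, P a 0 ↔ P (a + 1) 0) (hb : ∀ a b, P a b ↔ P a (b + 1)) (h0 : P 0 0) :
    ∀ a b, P a b := fun a => line (hb a) (line (P := fun a => P a 0) ha h0 a)

theorem conj_comm_eq {G : Type*} [Group G] (g x y : G) :
    ⁅g * x * g⁻¹, g * y * g⁻¹⁆ = g * ⁅x, y⁆ * g⁻¹ := by
  simp only [commutatorElement_def]; group

variable {n : ℕ} {hn : 4 ≤ n} {G : Type*} [Group G] {ι : alternatingGroup (Fin n) →* G} {h u : G}

namespace Data

variable (D : Data hn ι h u)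
include D

theorem commute_shift {a b i j k l : Fin n} (hab : a ≠ b) (hij : i ≠ j) (hkl : k ≠ l) {s t s' t' : ℤ}
    (hs : s' = s + (wt i j a - wt i j b)) (ht : t' = t + (wt k l a - wt k l b)) :
    Commute (V hn ι h u s i j) (V hn ι h u t k l) ↔ Commute (V hn ι h u s' i j) (V hn ι h u t' k l) := by
  rw [← D.H_V' s hab hij hs, ← D.H_V' t hab hkl ht, Commute.conj_iff]

theorem prod_shift {a b i j l : Fin n} (hab : a ≠ b) (hij : i ≠ j) (hjl : j ≠ l) (hil : i ≠ l) {s t s' t' : ℤ}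
    (hs : s' = s + (wt i j a - wt i j b)) (ht : t' = t + (wt j l a - wt j l b))
    (hst : s' + t' = s + t + (wt i l a - wt i l b)) :
    ⁅V hn ι h u s i j, V hn ι h u t j l⁆ = V hn ι h u (s + t) i l ↔
      ⁅V hn ι h u s' i j, V hn ι h u t' j l⁆ = V hn ι h u (s' + t') i l := by
  rw [← D.H_V' s hab hij hs, ← D.H_V' t hab hjl ht, ← D.H_V' (s + t) hab hil hst, conj_comm_eq, mul_left_inj,
    mul_right_inj]

theorem row_all {i j l : Fin n} (hij : i ≠ j) (hjl : j ≠ l) (hil : i ≠ l) (s t : ℤ) :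
    Commute (V hn ι h u s i j) (V hn ι h u t i l) := by
  have hq : ∀ {a b : Fin 4}, a ≠ b → q hn a ≠ q hn b := fun e => q_ne hn e
  have base : ∀ s t, Commute (V hn ι h u s (q hn 0) (q hn 1)) (V hn ι h u t (q hn 0) (q hn 2)) := by
    refine fun s => line (fun t => (D.commute_shift (hq (show (3 : Fin 4) ≠ 2 by decide)) (hq (by decide))
      (hq (by decide)) ?_ ?_)) ?_
    · simp [wt, (q_inj hn).eq_iff]
    · simp [wt, (q_inj hn).eq_iff]
    refine line (P := fun s => Commute (V hn ι h u s (q hn 0) (q hn 1)) (V hn ι h u 0 (q hn 0) (q hn 2)))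
      (fun s => (D.commute_shift (hq (show (0 : Fin 4) ≠ 3 by decide)) (hq (by decide)) (hq (by decide))
        (s' := s + 1) (t' := 1) ?_ ?_).trans ?_) D.row s
    · simp [wt, (q_inj hn).eq_iff]
    · simp [wt, (q_inj hn).eq_iff]
    · refine D.commute_shift (hq (show (2 : Fin 4) ≠ 3 by decide)) (hq (by decide)) (hq (by decide)) ?_ ?_ <;>
        simp [wt, (q_inj hn).eq_iff]
  obtain ⟨π, ⟨h0, h1, h2⟩ | ⟨h0, h2, h1⟩⟩ := exists_even_triple hn (show (0 : Fin 4) ≠ 1 by decide)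
    (show (1 : Fin 4) ≠ 2 by decide) (show (0 : Fin 4) ≠ 2 by decide) hij hjl hil
  · have e := SL2Pres.commute_conj (g := ι π) (base s t)
    rwa [D.V_equiv _ π (hq (by decide)), D.V_equiv _ π (hq (by decide)), h0, h1, h2] at e
  · have e := (SL2Pres.commute_conj (g := ι π) (base t s)).symm
    rwa [D.V_equiv _ π (hq (by decide)), D.V_equiv _ π (hq (by decide)), h0, h1, h2] at e

theorem col_all {i j k : Fin n} (hij : i ≠ j) (hkj : k ≠ j) (hik : i ≠ k) (s t : ℤ) :
    Commute (V hn ι h u s i j) (V hn ι h u t k j) := by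
  have hq : ∀ {a b : Fin 4}, a ≠ b → q hn a ≠ q hn b := fun e => q_ne hn e
  have base : ∀ s t, Commute (V hn ι h u s (q hn 0) (q hn 1)) (V hn ι h u t (q hn 2) (q hn 1)) := by
    refine fun s => line (fun t => (D.commute_shift (hq (show (2 : Fin 4) ≠ 3 by decide)) (hq (by decide))
      (hq (by decide)) ?_ ?_)) ?_
    · simp [wt, (q_inj hn).eq_iff]
    · simp [wt, (q_inj hn).eq_iff]
    refine line (P := fun s => Commute (V hn ι h u s (q hn 0) (q hn 1)) (V hn ι h u 0 (q hn 2) (q hn 1)))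
      (fun s => D.commute_shift (hq (show (0 : Fin 4) ≠ 3 by decide)) (hq (by decide)) (hq (by decide)) ?_ ?_)
      D.col s
    · simp [wt, (q_inj hn).eq_iff]
    · simp [wt, (q_inj hn).eq_iff]
  obtain ⟨π, ⟨h1, h0, h2⟩ | ⟨h1, h2, h0⟩⟩ := exists_even_triple hn (show (1 : Fin 4) ≠ 0 by decide)
    (show (0 : Fin 4) ≠ 2 by decide) (show (1 : Fin 4) ≠ 2 by decide) hij.symm hik hkj.symm
  · have e := SL2Pres.commute_conj (g := ι π) (base s t)
    rwa [D.V_equiv _ π (hq (by decide)), D.V_equiv _ π (hq (by decide)), h0, h1, h2] at e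
  · have e := (SL2Pres.commute_conj (g := ι π) (base t s)).symm
    rwa [D.V_equiv _ π (hq (by decide)), D.V_equiv _ π (hq (by decide)), h0, h1, h2] at e

theorem prod_all {i j l : Fin n} (hij : i ≠ j) (hjl : j ≠ l) (hil : i ≠ l) (s t : ℤ) :
    ⁅V hn ι h u s i j, V hn ι h u t j l⁆ = V hn ι h u (s + t) i l := by
  have hq : ∀ {a b : Fin 4}, a ≠ b → q hn a ≠ q hn b := fun e => q_ne hn e
  have base : ∀ s t, ⁅V hn ι h u s (q hn 0) (q hn 1), V hn ι h u t (q hn 1) (q hn 2)⁆ =
      V hn ι h u (s + t) (q hn 0) (q hn 2) := by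
    refine fun s => line (fun t => D.prod_shift (hq (show (3 : Fin 4) ≠ 2 by decide)) (hq (by decide))
      (hq (by decide)) (hq (by decide)) ?_ ?_ ?_) ?_
    · simp [wt, (q_inj hn).eq_iff]
    · simp [wt, (q_inj hn).eq_iff]
    · simp [wt, (q_inj hn).eq_iff, add_assoc]
    refine line (P := fun s => ⁅V hn ι h u s (q hn 0) (q hn 1), V hn ι h u 0 (q hn 1) (q hn 2)⁆ =
      V hn ι h u (s + 0) (q hn 0) (q hn 2)) (fun s => D.prod_shift (hq (show (0 : Fin 4) ≠ 3 by decide))
      (hq (by decide)) (hq (by decide)) (hq (by decide)) ?_ ?_ ?_) (by rw [add_zero]; exact D.prod) s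
    · simp [wt, (q_inj hn).eq_iff]
    · simp [wt, (q_inj hn).eq_iff]
    · simp [wt, (q_inj hn).eq_iff]
  have move : ∀ (π : alternatingGroup (Fin n)) {a b c : Fin 4}, a ≠ b → b ≠ c → a ≠ c →
      (π : Perm (Fin n)) (q hn a) = i → (π : Perm (Fin n)) (q hn b) = j → (π : Perm (Fin n)) (q hn c) = l →
      ⁅V hn ι h u s (q hn a) (q hn b), V hn ι h u t (q hn b) (q hn c)⁆ = V hn ι h u (s + t) (q hn a) (q hn c) →
      ⁅V hn ι h u s i j, V hn ι h u t j l⁆ = V hn ι h u (s + t) i l := by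
    intro π a b c hab hbc hac h0 h1 h2 e
    have e' := congrArg (fun y => ι π * y * (ι π)⁻¹) e
    simp only [← conj_comm_eq] at e'
    rwa [D.V_equiv _ π (hq hab), D.V_equiv _ π (hq hbc), D.V_equiv _ π (hq hac), h0, h1, h2] at e'
  obtain ⟨π, ⟨h0, h1, h2⟩ | ⟨h0, h2, h1⟩⟩ := exists_even_triple hn (show (0 : Fin 4) ≠ 1 by decide)
    (show (1 : Fin 4) ≠ 2 by decide) (show (0 : Fin 4) ≠ 2 by decide) hij hjl hil
  · exact move π (by decide) (by decide) (by decide) h0 h1 h2 (base s t)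
  by_cases h4 : n = 4
  · have base2 : ∀ s t, ⁅V hn ι h u s (q hn 0) (q hn 2), V hn ι h u t (q hn 2) (q hn 1)⁆ =
        V hn ι h u (s + t) (q hn 0) (q hn 1) := by
      have step_a : ∀ s t, ⁅V hn ι h u s (q hn 0) (q hn 2), V hn ι h u t (q hn 2) (q hn 1)⁆ =
          V hn ι h u (s + t) (q hn 0) (q hn 1) ↔
          ⁅V hn ι h u (s + 1) (q hn 0) (q hn 2), V hn ι h u t (q hn 2) (q hn 1)⁆ =
          V hn ι h u (s + 1 + t) (q hn 0) (q hn 1) := fun s t =>
        D.prod_shift (hq (show (0 : Fin 4) ≠ 3 by decide)) (hq (by decide)) (hq (by decide)) (hq (by decide))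
          (by simp [wt, (q_inj hn).eq_iff]) (by simp [wt, (q_inj hn).eq_iff])
          (by simp [wt, (q_inj hn).eq_iff]; ring)
      refine plane (P := fun s t => ⁅V hn ι h u s (q hn 0) (q hn 2), V hn ι h u t (q hn 2) (q hn 1)⁆ =
        V hn ι h u (s + t) (q hn 0) (q hn 1)) (fun s => step_a s 0) (fun s t => ?_)
        (by rw [add_zero]; exact (D.extra h4).1)
      refine (step_a s t).trans (D.prod_shift (hq (show (2 : Fin 4) ≠ 3 by decide)) (hq (by decide))
        (hq (by decide)) (hq (by decide)) ?_ ?_ ?_)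
      · simp [wt, (q_inj hn).eq_iff]
      · simp [wt, (q_inj hn).eq_iff]
      · simp [wt, (q_inj hn).eq_iff]; ring
    exact move π (by decide) (by decide) (by decide) h0 h2 h1 (base2 s t)
  let q4 : Fin n := ⟨4, by omega⟩
  have h4q : ∀ a : Fin 4, q hn a ≠ q4 := fun a e => by
    have := congrArg Fin.val e; simp [q, q4] at this; omega
  have hσ : swap (q hn 1) (q hn 2) * swap (q hn 3) q4 ∈ alternatingGroup (Fin n) := by
    rw [Perm.mem_alternatingGroup, map_mul, Perm.sign_swap (hq (by decide)), Perm.sign_swap (h4q 3)]; rfl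
  let σ : alternatingGroup (Fin n) := ⟨_, hσ⟩
  refine move (π * σ) (show (0 : Fin 4) ≠ 1 by decide) (show (1 : Fin 4) ≠ 2 by decide)
    (show (0 : Fin 4) ≠ 2 by decide) ?_ ?_ ?_ (base s t)
  · show (π : Perm (Fin n)) (swap (q hn 1) (q hn 2) (swap (q hn 3) q4 (q hn 0))) = i
    rw [swap_apply_of_ne_of_ne (hq (by decide)) (h4q 0), swap_apply_of_ne_of_ne (hq (by decide)) (hq (by decide)), h0]
  · show (π : Perm (Fin n)) (swap (q hn 1) (q hn 2) (swap (q hn 3) q4 (q hn 1))) = j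
    rw [swap_apply_of_ne_of_ne (hq (by decide)) (h4q 1), swap_apply_left, h2]
  · show (π : Perm (Fin n)) (swap (q hn 1) (q hn 2) (swap (q hn 3) q4 (q hn 2))) = l
    rw [swap_apply_of_ne_of_ne (hq (by decide)) (h4q 2), swap_apply_right, h1]

/-- All conjugates of the root element under the torus element commute. -/
theorem commute_cj (s t : ℤ) : Commute (cj h u s) (cj h u t) := by
  have hq : ∀ {a b : Fin 4}, a ≠ b → q hn a ≠ q hn b := fun e => q_ne hn e
  have e := D.prod_all (hq (show (0 : Fin 4) ≠ 2 by decide)) (hq (show (2 : Fin 4) ≠ 1 by decide))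
    (hq (show (0 : Fin 4) ≠ 1 by decide)) t 0
  rw [add_zero, D.V_base] at e
  rw [← D.V_base s, ← e, commutatorElement_def]
  have h1 := D.row_all (hq (show (0 : Fin 4) ≠ 1 by decide)) (hq (show (1 : Fin 4) ≠ 2 by decide))
    (hq (show (0 : Fin 4) ≠ 2 by decide)) s t
  have h2 := D.col_all (hq (show (0 : Fin 4) ≠ 1 by decide)) (hq (show (2 : Fin 4) ≠ 1 by decide))
    (hq (show (0 : Fin 4) ≠ 2 by decide)) s 0
  exact ((h1.mul_right h2).mul_right h1.inv_right).mul_right h2.inv_right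

theorem disj_base (a m : ℤ) :
    Commute (V hn ι h u a (q hn 0) (q hn 1)) (V hn ι h u (a + 2 * m) (q hn 2) (q hn 3)) := by
  have hq : ∀ {a b : Fin 4}, a ≠ b → q hn a ≠ q hn b := fun e => q_ne hn e
  have up : ∀ a b, Commute (V hn ι h u a (q hn 0) (q hn 1)) (V hn ι h u b (q hn 2) (q hn 3)) ↔
      Commute (V hn ι h u (a + 1) (q hn 0) (q hn 1)) (V hn ι h u (b + 1) (q hn 2) (q hn 3)) := fun a b =>
    D.commute_shift (hq (show (0 : Fin 4) ≠ 3 by decide)) (hq (by decide)) (hq (by decide))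
      (by simp [wt, (q_inj hn).eq_iff]) (by simp [wt, (q_inj hn).eq_iff])
  refine plane (P := fun a m => Commute (V hn ι h u a (q hn 0) (q hn 1))
    (V hn ι h u (a + 2 * m) (q hn 2) (q hn 3))) (fun a => ?_) (fun a m => ?_) (by simpa using D.disj) a m
  · simpa using up a a
  · refine (up a _).trans (D.commute_shift (hq (show (2 : Fin 4) ≠ 0 by decide)) (hq (by decide))
      (hq (by decide)) ?_ ?_)
    · simp [wt, (q_inj hn).eq_iff]
    · simp [wt, (q_inj hn).eq_iff]; ring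

theorem disj_base4 (h4 : n = 4) (a m : ℤ) :
    Commute (V hn ι h u a (q hn 0) (q hn 1)) (V hn ι h u (a + 2 * m) (q hn 3) (q hn 2)) := by
  have hq : ∀ {a b : Fin 4}, a ≠ b → q hn a ≠ q hn b := fun e => q_ne hn e
  have up : ∀ a b, Commute (V hn ι h u a (q hn 0) (q hn 1)) (V hn ι h u b (q hn 3) (q hn 2)) ↔
      Commute (V hn ι h u (a + 1) (q hn 0) (q hn 1)) (V hn ι h u (b + 1) (q hn 3) (q hn 2)) := fun a b =>
    D.commute_shift (hq (show (0 : Fin 4) ≠ 2 by decide)) (hq (by decide)) (hq (by decide))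
      (by simp [wt, (q_inj hn).eq_iff]) (by simp [wt, (q_inj hn).eq_iff])
  refine plane (P := fun a m => Commute (V hn ι h u a (q hn 0) (q hn 1))
    (V hn ι h u (a + 2 * m) (q hn 3) (q hn 2))) (fun a => ?_) (fun a m => ?_) (by simpa using (D.extra h4).2) a m
  · simpa using up a a
  · refine (up a _).trans (D.commute_shift (hq (show (3 : Fin 4) ≠ 0 by decide)) (hq (by decide))
      (hq (by decide)) ?_ ?_)
    · simp [wt, (q_inj hn).eq_iff]
    · simp [wt, (q_inj hn).eq_iff]; ring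

end Data

section Roots

variable {F : Type*} [Field F] (hn ι) (φ : F → G)

/-- The root groups. -/
noncomputable def X (i j : Fin n) (t : F) : G := conjAt hn ι 0 1 (φ t) i j

variable {hn ι} {φ}
variable {ω : F} (hω : ω ≠ 0) (hgen : ∀ x : F, x ≠ 0 → ∃ k : ℕ, ω ^ k = x)
  (hadd : ∀ x y, φ (x + y) = φ x * φ y) (hpow : ∀ k : ℕ, φ (ω ^ k) = cj h u k) (D : Data hn ι h u)
include hω hgen hadd hpow D

theorem φ_zero : φ 0 = 1 := by
  have := hadd 0 0
  rwa [add_zero, left_eq_mul] at this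

theorem stab_φ (t : F) (ρ : alternatingGroup (Fin n)) (h0 : (ρ : Perm (Fin n)) (q hn 0) = q hn 0)
    (h1 : (ρ : Perm (Fin n)) (q hn 1) = q hn 1) : Commute (ι ρ) (φ t) := by
  rcases eq_or_ne t 0 with rfl | ht
  · rw [φ_zero hω hgen hadd hpow D]; exact Commute.one_right _
  obtain ⟨k, rfl⟩ := hgen t ht
  rw [hpow]; exact D.stab_cj _ ρ h0 h1

theorem X_eq (t : F) (π : alternatingGroup (Fin n)) :
    X hn ι φ ((π : Perm (Fin n)) (q hn 0)) ((π : Perm (Fin n)) (q hn 1)) t = ι π * φ t * (ι π)⁻¹ :=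
  conjAt_eq hn ι (by decide) _ (stab_φ hω hgen hadd hpow D t) π

theorem X_equiv (t : F) (ρ : alternatingGroup (Fin n)) {i j : Fin n} (hij : i ≠ j) :
    ι ρ * X hn ι φ i j t * (ι ρ)⁻¹ = X hn ι φ ((ρ : Perm (Fin n)) i) ((ρ : Perm (Fin n)) j) t :=
  conjAt_equiv hn ι (by decide) _ (stab_φ hω hgen hadd hpow D t) ρ hij

theorem X_add {i j : Fin n} (hij : i ≠ j) (s t : F) :
    X hn ι φ i j s * X hn ι φ i j t = X hn ι φ i j (s + t) := by
  obtain ⟨π, rfl, rfl⟩ := exists_even_pair hn (show (0 : Fin 4) ≠ 1 by decide) hij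
  rw [X_eq hω hgen hadd hpow D, X_eq hω hgen hadd hpow D, X_eq hω hgen hadd hpow D, hadd]
  group

theorem X_zero {i j : Fin n} (hij : i ≠ j) : X hn ι φ i j 0 = 1 := by
  have := X_add hω hgen hadd hpow D hij 0 0
  rwa [add_zero, mul_eq_left] at this

theorem X_pow {i j : Fin n} (hij : i ≠ j) (k : ℕ) : X hn ι φ i j (ω ^ k) = V hn ι h u k i j := by
  obtain ⟨π, rfl, rfl⟩ := exists_even_pair hn (show (0 : Fin 4) ≠ 1 by decide) hij
  rw [X_eq hω hgen hadd hpow D, D.V_eq, hpow]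

theorem X_disj_even (π : alternatingGroup (Fin n)) {c d : Fin 4}
    (hb : ∀ a m : ℤ, Commute (V hn ι h u a (q hn 0) (q hn 1)) (V hn ι h u (a + 2 * m) (q hn c) (q hn d)))
    (hcd : c ≠ d) (s t : F) :
    Commute (X hn ι φ ((π : Perm (Fin n)) (q hn 0)) ((π : Perm (Fin n)) (q hn 1)) s)
      (X hn ι φ ((π : Perm (Fin n)) (q hn c)) ((π : Perm (Fin n)) (q hn d)) t) := by
  have h01 : q hn 0 ≠ q hn 1 := q_ne hn (by decide)
  rw [← X_equiv hω hgen hadd hpow D s π h01, ← X_equiv hω hgen hadd hpow D t π (q_ne hn hcd), Commute.conj_iff]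
  rcases eq_or_ne s 0 with rfl | hs
  · rw [X_zero hω hgen hadd hpow D h01]; exact Commute.one_left _
  obtain ⟨a, rfl⟩ := hgen s hs
  haveI : Finite F := Finite.of_surjective (fun k : Option (Fin (orderOf ω)) => k.elim 0 (fun i => ω ^ i.val))
    fun x => by
      rcases eq_or_ne x 0 with rfl | hx
      · exact ⟨none, rfl⟩
      obtain ⟨k, rfl⟩ := hgen x hx
      have hpos : 0 < orderOf ω := by
        obtain ⟨j, hj⟩ := hgen ω⁻¹ (inv_ne_zero hω)
        have : ω ^ (j + 1) = 1 := by rw [pow_succ, hj, inv_mul_cancel₀ hω]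
        exact orderOf_pos_iff.2 (isOfFinOrder_iff_pow_eq_one.2 ⟨j + 1, by omega, this⟩)
      exact ⟨some ⟨k % orderOf ω, Nat.mod_lt _ hpos⟩, pow_mod_orderOf ω k⟩
  let K : AddSubgroup F :=
    { carrier := {y | Commute (X hn ι φ (q hn 0) (q hn 1) (ω ^ a)) (X hn ι φ (q hn c) (q hn d) (ω ^ a * y))}
      zero_mem' := by
        show Commute _ _
        rw [mul_zero, X_zero hω hgen hadd hpow D (q_ne hn hcd)]; exact Commute.one_right _
      add_mem' := fun {x y} hx hy => by
        show Commute _ _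
        rw [mul_add, ← X_add hω hgen hadd hpow D (q_ne hn hcd)]; exact hx.mul_right hy
      neg_mem' := fun {x} hx => by
        show Commute _ _
        have : X hn ι φ (q hn c) (q hn d) (ω ^ a * -x) = (X hn ι φ (q hn c) (q hn d) (ω ^ a * x))⁻¹ := by
          refine eq_inv_of_mul_eq_one_left ?_
          rw [X_add hω hgen hadd hpow D (q_ne hn hcd), ← mul_add, neg_add_cancel, mul_zero,
            X_zero hω hgen hadd hpow D (q_ne hn hcd)]
        rw [this]; exact hx.inv_right }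
  have hK : K = ⊤ := squares_span K fun x hx => by
    obtain ⟨m, rfl⟩ := hgen x hx
    show Commute _ _
    rw [← pow_add, ← pow_add, X_pow hω hgen hadd hpow D h01, X_pow hω hgen hadd hpow D (q_ne hn hcd)]
    have := hb a m
    rwa [show ((a : ℤ) + 2 * (m : ℤ)) = ((a + (m + m) : ℕ) : ℤ) by push_cast; ring] at this
  have ht : (ω ^ a)⁻¹ * t ∈ K := by rw [hK]; trivial
  have ht' : Commute (X hn ι φ (q hn 0) (q hn 1) (ω ^ a))
      (X hn ι φ (q hn c) (q hn d) (ω ^ a * ((ω ^ a)⁻¹ * t))) := ht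
  rwa [mul_inv_cancel_left₀ (pow_ne_zero a hω)] at ht'

theorem X_prod {i j l : Fin n} (hij : i ≠ j) (hjl : j ≠ l) (hil : i ≠ l) (s t : F) :
    ⁅X hn ι φ i j s, X hn ι φ j l t⁆ = X hn ι φ i l (s * t) := by
  rcases eq_or_ne s 0 with rfl | hs
  · rw [zero_mul, X_zero hω hgen hadd hpow D hij, X_zero hω hgen hadd hpow D hil, commutatorElement_one_left]
  rcases eq_or_ne t 0 with rfl | ht
  · rw [mul_zero, X_zero hω hgen hadd hpow D hjl, X_zero hω hgen hadd hpow D hil, commutatorElement_one_right]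
  obtain ⟨a, rfl⟩ := hgen s hs
  obtain ⟨b, rfl⟩ := hgen t ht
  rw [← pow_add, X_pow hω hgen hadd hpow D hij, X_pow hω hgen hadd hpow D hjl, X_pow hω hgen hadd hpow D hil,
    D.prod_all hij hjl hil]
  push_cast; rfl

theorem X_disj {i j k l : Fin n} (hij : i ≠ j) (hik : i ≠ k) (hil : i ≠ l) (hjk : j ≠ k) (hjl : j ≠ l)
    (hkl : k ≠ l) (s t : F) : Commute (X hn ι φ i j s) (X hn ι φ k l t) := by
  have hq : ∀ {a b : Fin 4}, a ≠ b → q hn a ≠ q hn b := fun e => q_ne hn e
  obtain ⟨π, hπ⟩ := exists_perm_map (f := q hn) (g := ![i, j, k, l]) (q_inj hn)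
    (vec4_inj hij hik hil hjk hjl hkl)
  have h0 : π (q hn 0) = i := hπ 0
  have h1 : π (q hn 1) = j := hπ 1
  have h2 : π (q hn 2) = k := hπ 2
  have h3 : π (q hn 3) = l := hπ 3
  rcases even_or_swap π (hq (show (2 : Fin 4) ≠ 3 by decide)) with he | he
  · have := X_disj_even hω hgen hadd hpow D ⟨π, he⟩ D.disj_base (show (2 : Fin 4) ≠ 3 by decide) s t
    simpa [h0, h1, h2, h3] using this
  by_cases h4 : n = 4
  · have := X_disj_even hω hgen hadd hpow D ⟨_, he⟩ (D.disj_base4 h4) (show (3 : Fin 4) ≠ 2 by decide) s t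
    simpa [h0, h1, h2, h3, swap_apply_of_ne_of_ne, (q_inj hn).eq_iff] using this
  let q4 : Fin n := ⟨4, by omega⟩
  have h4q : ∀ a : Fin 4, q hn a ≠ q4 := fun a e => by
    have := congrArg Fin.val e; simp [q, q4] at this; omega
  rcases Int.units_eq_one_or (Perm.sign π) with hs | hs
  · have := X_disj_even hω hgen hadd hpow D ⟨π, Perm.mem_alternatingGroup.2 hs⟩ D.disj_base
      (show (2 : Fin 4) ≠ 3 by decide) s t
    simpa [h0, h1, h2, h3] using this
  set m := π q4 with hm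
  have e34 : π * swap (q hn 3) q4 ∈ alternatingGroup (Fin n) := by
    rw [Perm.mem_alternatingGroup, map_mul, hs, Perm.sign_swap (h4q 3)]; rfl
  have e24 : π * swap (q hn 2) q4 ∈ alternatingGroup (Fin n) := by
    rw [Perm.mem_alternatingGroup, map_mul, hs, Perm.sign_swap (h4q 2)]; rfl
  have c1 : ∀ t', Commute (X hn ι φ i j s) (X hn ι φ k m t') := fun t' => by
    have := X_disj_even hω hgen hadd hpow D ⟨_, e34⟩ D.disj_base (show (2 : Fin 4) ≠ 3 by decide) s t'
    simpa [h0, h1, h2, hm, swap_apply_of_ne_of_ne, h4q, (q_inj hn).eq_iff] using this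
  have c2 : ∀ t', Commute (X hn ι φ i j s) (X hn ι φ m l t') := fun t' => by
    have := X_disj_even hω hgen hadd hpow D ⟨_, e24⟩ D.disj_base (show (2 : Fin 4) ≠ 3 by decide) s t'
    simpa [h0, h1, h3, hm, swap_apply_of_ne_of_ne, h4q, (q_inj hn).eq_iff] using this
  have hkm : k ≠ m := by rw [← h2, hm]; exact π.injective.ne (h4q 2)
  have hml : m ≠ l := by rw [← h3, hm]; exact π.injective.ne (h4q 3).symm
  rw [← mul_one t, ← X_prod hω hgen hadd hpow D hkm hml hkl t 1, commutatorElement_def]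
  exact (((c1 t).mul_right (c2 1)).mul_right (c1 t).inv_right).mul_right (c2 1).inv_right

/-- The Steinberg relations. -/
theorem X_rels : StN.Rels (X hn ι φ) := by
  refine ⟨fun i j hij => X_add hω hgen hadd hpow D hij, fun i j k l hij hkl hil hjk s t => ?_,
    fun i j l hij hjl hil => X_prod hω hgen hadd hpow D hij hjl hil⟩
  rcases eq_or_ne i k with rfl | hik
  · rcases eq_or_ne j l with rfl | hjl
    · show _ = _
      rw [X_add hω hgen hadd hpow D hij, X_add hω hgen hadd hpow D hij, add_comm]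
    rcases eq_or_ne s 0 with rfl | hs
    · rw [X_zero hω hgen hadd hpow D hij]; exact Commute.one_left _
    rcases eq_or_ne t 0 with rfl | ht
    · rw [X_zero hω hgen hadd hpow D hkl]; exact Commute.one_right _
    obtain ⟨a, rfl⟩ := hgen s hs
    obtain ⟨b, rfl⟩ := hgen t ht
    rw [X_pow hω hgen hadd hpow D hij, X_pow hω hgen hadd hpow D hkl]
    exact D.row_all hij hjl hil _ _
  rcases eq_or_ne j l with rfl | hjl
  · rcases eq_or_ne s 0 with rfl | hs
    · rw [X_zero hω hgen hadd hpow D hij]; exact Commute.one_left _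
    rcases eq_or_ne t 0 with rfl | ht
    · rw [X_zero hω hgen hadd hpow D hkl]; exact Commute.one_right _
    obtain ⟨a, rfl⟩ := hgen s hs
    obtain ⟨b, rfl⟩ := hgen t ht
    rw [X_pow hω hgen hadd hpow D hij, X_pow hω hgen hadd hpow D hkl]
    exact D.col_all hij hkl hik _ _
  exact X_disj hω hgen hadd hpow D hij hik hil hjk hjl hkl s t

end Roots

end Cfsg.Lib.SLnPres
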