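import Cfsg.Agent.Known.SLnPres.Seeds
import Cfsg.Agent.Known.StN.Lift
import Cfsg.Agent.Known.AltPres.Transfer

/-!
# Permutation and diagonal matrices, and generators of two-point stabilisers
-/

set_option autoImplicit false
set_option linter.unusedSectionVars false

open scoped commutatorElement

namespace Cfsg.Lib.SLnPres

open Equiv
open Matrix (SpecialLinearGroup)

variable {n : ℕ} {F : Type*} [Field F]

theorem perm_mul (σ τ : Perm (Fin n)) :
    ((σ * τ)⁻¹.permMatrix F : Matrix (Fin n) (Fin n) F) = σ⁻¹.permMatrix F * τ⁻¹.permMatrix F := by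
  ext a b
  rw [Matrix.mul_apply, Finset.sum_eq_single (σ⁻¹ a)]
  · simp [Equiv.Perm.permMatrix, PEquiv.toMatrix_apply, Equiv.toPEquiv_apply]
  · intro c _ hc
    rw [show (σ⁻¹.permMatrix F : Matrix (Fin n) (Fin n) F) a c = 0 by
      simp only [Equiv.Perm.permMatrix, PEquiv.toMatrix_apply, Equiv.toPEquiv_apply, Option.mem_some_iff]
      rw [if_neg fun e => hc e.symm], zero_mul]
  · simp

/-- The permutation matrices of even permutations. -/
def permSL : alternatingGroup (Fin n) →* SpecialLinearGroup (Fin n) F where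
  toFun π := ⟨(π : Perm (Fin n))⁻¹.permMatrix F, by
    rw [Matrix.det_permutation, Perm.sign_inv, Perm.mem_alternatingGroup.1 π.2]; simp⟩
  map_one' := Subtype.ext (by simp [Equiv.Perm.permMatrix])
  map_mul' σ τ := Subtype.ext (perm_mul (σ : Perm (Fin n)) τ)

theorem permSL_apply (π : alternatingGroup (Fin n)) (a b : Fin n) :
    (permSL π : SpecialLinearGroup (Fin n) F).1 a b = if (π : Perm (Fin n)) b = a then 1 else 0 := by
  show ((π : Perm (Fin n))⁻¹.permMatrix F : Matrix (Fin n) (Fin n) F) a b = _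
  simp only [Equiv.Perm.permMatrix, PEquiv.toMatrix_apply, Equiv.toPEquiv_apply, Option.mem_some_iff]
  by_cases h : (π : Perm (Fin n)) b = a
  · rw [if_pos h, if_pos (by rw [← h]; simp)]
  · rw [if_neg h, if_neg]
    rintro rfl; exact h (by simp)

theorem permSL_T (π : alternatingGroup (Fin n)) {i j : Fin n} (hij : i ≠ j) (t : F) :
    permSL π * StN.T i j t * (permSL π)⁻¹ = StN.T ((π : Perm (Fin n)) i) ((π : Perm (Fin n)) j) t := by
  rw [mul_inv_eq_iff_eq_mul]
  apply Subtype.ext
  ext a b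
  rw [Matrix.SpecialLinearGroup.coe_mul, Matrix.SpecialLinearGroup.coe_mul, StN.coe_T hij,
    StN.coe_T ((π : Perm (Fin n)).injective.ne hij)]
  rw [Matrix.mul_apply, Matrix.mul_apply]
  simp only [permSL_apply, ite_mul, one_mul, zero_mul, mul_ite, mul_one, mul_zero, Matrix.transvection]
  rw [Finset.sum_eq_single ((π : Perm (Fin n))⁻¹ a), Finset.sum_eq_single ((π : Perm (Fin n)) b)]
  · rw [if_pos (by simp), if_pos rfl]
    simp only [Matrix.add_apply, Matrix.one_apply, Matrix.single_apply]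
    have e1 : ((π : Perm (Fin n))⁻¹ a = b) ↔ (a = (π : Perm (Fin n)) b) := by
      constructor
      · rintro rfl; simp
      · rintro rfl; simp
    have e2 : (i = (π : Perm (Fin n))⁻¹ a) ↔ ((π : Perm (Fin n)) i = a) := by
      constructor
      · rintro rfl; simp
      · rintro rfl; simp
    simp only [e1, e2, (π : Perm (Fin n)).injective.eq_iff]
  · intro c _ hc; rw [if_neg (fun e => hc e.symm)]
  · simp
  · intro c _ hc; rw [if_neg (fun e => hc (by rw [← e]; simp))]
  · simp

/-- The diagonal matrix with `s` and `s⁻¹` at two places. -/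
def dij (i j : Fin n) (s : Fˣ) : SpecialLinearGroup (Fin n) F :=
  StN.dg (Pi.mulSingle i s * Pi.mulSingle j s⁻¹) (StN.prod_two i j s)

theorem dij_T (i j : Fin n) (s : Fˣ) {k l : Fin n} (hkl : k ≠ l) (t : F) :
    dij i j s * StN.T k l t * (dij i j s)⁻¹ = StN.T k l
      ((((Pi.mulSingle i s * Pi.mulSingle j s⁻¹ : Fin n → Fˣ) k : Fˣ) : F) *
        (((Pi.mulSingle i s * Pi.mulSingle j s⁻¹ : Fin n → Fˣ) l : Fˣ) : F)⁻¹ * t) :=
  StN.dg_conj _ _ hkl t

theorem coe_dij (i j : Fin n) (s : Fˣ) : (dij i j s : Matrix (Fin n) (Fin n) F) =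
    Matrix.diagonal fun x => (((Pi.mulSingle i s * Pi.mulSingle j s⁻¹ : Fin n → Fˣ) x : Fˣ) : F) := rfl

theorem dij_comm (i j k l : Fin n) (s t : Fˣ) : Commute (dij i j s) (dij k l t) := by
  refine Subtype.ext ?_
  rw [Matrix.SpecialLinearGroup.coe_mul, Matrix.SpecialLinearGroup.coe_mul, coe_dij, coe_dij,
    Matrix.diagonal_mul_diagonal, Matrix.diagonal_mul_diagonal]
  simp only [mul_comm]

theorem dij_mul (i j l : Fin n) (s : Fˣ) : dij i j s * dij j l s = dij i l s := by
  refine Subtype.ext ?_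
  rw [Matrix.SpecialLinearGroup.coe_mul, coe_dij, coe_dij, coe_dij, Matrix.diagonal_mul_diagonal]
  congr 1; funext x
  rw [← Units.val_mul]
  congr 1
  simp only [Pi.mul_apply, Pi.mulSingle_apply]
  split_ifs <;> simp [mul_comm, mul_left_comm]

theorem dij_self (i : Fin n) (s : Fˣ) : dij i i s = (1 : SpecialLinearGroup (Fin n) F) := by
  refine Subtype.ext ?_
  rw [coe_dij, Matrix.SpecialLinearGroup.coe_one, ← Matrix.diagonal_one]
  congr 1; funext x
  simp [Pi.mulSingle_apply]
  split_ifs <;> simp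

theorem dij_symm (i j : Fin n) (s : Fˣ) : dij j i s = (dij i j s : SpecialLinearGroup (Fin n) F)⁻¹ :=
  eq_inv_of_mul_eq_one_left (by rw [dij_mul, dij_self])

theorem permSL_dij (π : alternatingGroup (Fin n)) (i j : Fin n) (s : Fˣ) :
    permSL π * dij i j s * (permSL π)⁻¹ =
      (dij ((π : Perm (Fin n)) i) ((π : Perm (Fin n)) j) s : SpecialLinearGroup (Fin n) F) := by
  rw [mul_inv_eq_iff_eq_mul]
  apply Subtype.ext
  ext a b
  rw [Matrix.SpecialLinearGroup.coe_mul, Matrix.SpecialLinearGroup.coe_mul, coe_dij, coe_dij,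
    Matrix.mul_diagonal, Matrix.diagonal_mul]
  simp only [permSL_apply]
  by_cases h : (π : Perm (Fin n)) b = a
  · subst h
    simp [Pi.mulSingle_apply, (π : Perm (Fin n)).injective.eq_iff]
  · simp [h]

/-- Two even permutations generate the stabiliser of two points. -/
theorem exists_stab_gens (hn : 4 ≤ n) {a b : Fin n} (hab : a ≠ b) :
    ∃ L : List (alternatingGroup (Fin n)), L.length ≤ (if n = 4 then 0 else if n = 5 then 1 else 2) ∧
      (∀ g ∈ L, (g : Perm (Fin n)) a = a ∧ (g : Perm (Fin n)) b = b) ∧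
      ∀ g : alternatingGroup (Fin n), (g : Perm (Fin n)) a = a → (g : Perm (Fin n)) b = b →
        g ∈ Subgroup.closure {x | x ∈ L} := by
  classical
  let S := {x : Fin n // x ≠ a ∧ x ≠ b}
  let φ : alternatingGroup S →* alternatingGroup (Fin n) :=
    (Perm.ofSubtype.comp (alternatingGroup S).subtype).codRestrict _ fun g => by
      rw [Perm.mem_alternatingGroup]
      show Perm.sign (Perm.ofSubtype (g : Perm S)) = 1
      rw [Perm.sign_ofSubtype]; exact Perm.mem_alternatingGroup.1 g.2
  have hfix : ∀ g : alternatingGroup S, (φ g : Perm (Fin n)) a = a ∧ (φ g : Perm (Fin n)) b = b := fun g =>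
    ⟨Perm.ofSubtype_apply_of_not_mem _ fun h => h.1 rfl, Perm.ofSubtype_apply_of_not_mem _ fun h => h.2 rfl⟩
  have hsurj : ∀ g : alternatingGroup (Fin n), (g : Perm (Fin n)) a = a → (g : Perm (Fin n)) b = b →
      ∃ x, φ x = g := by
    intro g ha hb
    have h1 : ∀ x, ((g : Perm (Fin n)) x ≠ a ∧ (g : Perm (Fin n)) x ≠ b) ↔ (x ≠ a ∧ x ≠ b) := fun x => by
      rw [(g : Perm (Fin n)).injective.ne_iff' ha, (g : Perm (Fin n)).injective.ne_iff' hb]
    have h2 : Perm.ofSubtype (Perm.subtypePerm (p := fun x => x ≠ a ∧ x ≠ b) (g : Perm (Fin n)) h1) = (g : Perm (Fin n)) :=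
      Perm.ofSubtype_subtypePerm _ fun x hx => ⟨fun e => hx (by rw [e, ha]), fun e => hx (by rw [e, hb])⟩
    refine ⟨⟨Perm.subtypePerm (p := fun x => x ≠ a ∧ x ≠ b) (g : Perm (Fin n)) h1, ?_⟩, Subtype.ext h2⟩
    rw [Perm.mem_alternatingGroup, ← Perm.sign_ofSubtype, h2]
    exact Perm.mem_alternatingGroup.1 g.2
  have hcard : Fintype.card S = n - 2 := by
    rw [Fintype.card_subtype]
    have : (Finset.univ.filter fun x : Fin n => x ≠ a ∧ x ≠ b) = (Finset.univ.erase a).erase b := by
      ext x; simp [and_comm]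
    rw [this, Finset.card_erase_of_mem (Finset.mem_erase.2 ⟨hab.symm, Finset.mem_univ _⟩),
      Finset.card_erase_of_mem (Finset.mem_univ _), Finset.card_univ, Fintype.card_fin]
    omega
  obtain ⟨L0, hlen, hgen⟩ : ∃ L0 : List (alternatingGroup (Fin (n - 2))),
      L0.length ≤ (if n = 4 then 0 else if n = 5 then 1 else 2) ∧ Subgroup.closure {x | x ∈ L0} = ⊤ := by
    by_cases h4 : n = 4
    · subst h4
      refine ⟨[], by simp, eq_top_iff.2 fun g _ => ?_⟩
      rw [show g = 1 from Subtype.ext ((show ∀ g : Perm (Fin 2), Perm.sign g = 1 → g = 1 by decide) _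
        (Perm.mem_alternatingGroup.1 g.2))]
      exact one_mem _
    by_cases h5 : n = 5
    · subst h5
      let z : alternatingGroup (Fin 3) := ⟨finRotate 3, Perm.mem_alternatingGroup.2 (by decide)⟩
      refine ⟨[z], by simp, eq_top_iff.2 fun g _ => ?_⟩
      have hz : z ∈ Subgroup.closure {x : alternatingGroup (Fin 3) | x ∈ [z]} := Subgroup.subset_closure (by simp)
      rcases (show ∀ t : alternatingGroup (Fin 3), t = 1 ∨ t = z ∨ t = z * z by decide) g with rfl | rfl | rfl
      exacts [one_mem _, hz, mul_mem hz hz]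
    obtain ⟨R, -, ⟨e⟩⟩ : AltPres.Pres2 (alternatingGroup (Fin (n - 2))) 8 := by
      rcases Nat.lt_or_ge (n - 2) 5 with h | h
      · exact AltPres.small_alt _ (by omega)
      · obtain ⟨R, hR, e⟩ := (AltPres.pres3_alt_fin _ h).pres2
        exact ⟨R, hR.trans (by norm_num), e⟩
    refine ⟨[e (PresentedGroup.of 0), e (PresentedGroup.of 1)], by simp [h4, h5], ?_⟩
    have h := congrArg (Subgroup.map e.toMonoidHom) (PresentedGroup.closure_range_of (↑R : Set (FreeGroup (Fin 2))))
    rw [MonoidHom.map_closure, Subgroup.map_top_of_surjective _ e.surjective] at h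
    rw [eq_top_iff, ← h]
    refine Subgroup.closure_mono ?_
    rintro _ ⟨_, ⟨i, rfl⟩, rfl⟩
    fin_cases i <;> simp
  let E : alternatingGroup (Fin (n - 2)) ≃* alternatingGroup S :=
    Equiv.altCongrHom (Fintype.equivFinOfCardEq hcard).symm
  refine ⟨L0.map fun x => φ (E x), by rw [List.length_map]; exact hlen, fun g hg => ?_, fun g ha hb => ?_⟩
  · obtain ⟨x, -, rfl⟩ := List.mem_map.1 hg
    exact hfix _
  · obtain ⟨x, rfl⟩ := hsurj g ha hb
    obtain ⟨y, rfl⟩ := E.surjective x
    have hy : y ∈ Subgroup.closure {x | x ∈ L0} := hgen ▸ Subgroup.mem_top y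
    have := Subgroup.mem_map_of_mem (φ.comp E.toMonoidHom) hy
    rw [MonoidHom.map_closure] at this
    refine Subgroup.closure_mono ?_ this
    rintro _ ⟨x, hx, rfl⟩
    exact List.mem_map.2 ⟨x, hx, rfl⟩

theorem alt_closure_conj {n : ℕ} (N : Subgroup (alternatingGroup (Fin n))) [N.Normal] {a b c : Fin n}
    (hab : a ≠ b) (hbc : b ≠ c) (hac : a ≠ c) (e : alternatingGroup (Fin n))
    (he : (e : Perm (Fin n)) = swap a b * swap a c) (hN : e ∈ N) : N = ⊤ := by
  rw [eq_top_iff]
  intro g _
  have hg : (g : Perm (Fin n)) ∈ Subgroup.closure {σ : Perm (Fin n) | σ.IsThreeCycle} := by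
    rw [Equiv.Perm.closure_three_cycles_eq_alternating]; exact g.2
  have hle : Subgroup.closure {σ : Perm (Fin n) | σ.IsThreeCycle} ≤ N.map (alternatingGroup (Fin n)).subtype := by
    rw [Subgroup.closure_le]
    intro σ hσ
    have h1 := Equiv.Perm.isThreeCycle_swap_mul_swap_same hab hac hbc
    obtain ⟨τ, hτ⟩ := isConj_iff.1 (Equiv.Perm.isConj_iff_cycleType_eq.2
      ((h1 : (swap a b * swap a c).cycleType = {3}).trans (hσ : σ.cycleType = {3}).symm))
    rcases Int.units_eq_one_or (Perm.sign τ) with h | h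
    · exact ⟨_, ‹N.Normal›.conj_mem e hN ⟨τ, Perm.mem_alternatingGroup.2 h⟩, by
        show (τ : Perm (Fin n)) * e * τ⁻¹ = σ
        rw [he, hτ]⟩
    · have hτ' : τ * swap b c ∈ alternatingGroup (Fin n) := by
        rw [Perm.mem_alternatingGroup, map_mul, h, Perm.sign_swap hbc]; rfl
      refine ⟨_, ‹N.Normal›.conj_mem _ (inv_mem hN) ⟨_, hτ'⟩, ?_⟩
      show τ * swap b c * (e : Perm (Fin n))⁻¹ * (τ * swap b c)⁻¹ = σ
      rw [he, ← hτ, mul_inv_rev, mul_inv_rev, swap_inv, swap_inv, swap_inv]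
      have e2 : swap b c * (swap a c * swap a b) * swap b c = swap a b * swap a c := by
        have f1 : swap b c * swap a c * (swap b c)⁻¹ = (swap a b : Perm (Fin n)) := by
          rw [← swap_apply_apply, swap_apply_of_ne_of_ne hab hac, swap_apply_right]
        have f2 : swap b c * swap a b * (swap b c)⁻¹ = (swap a c : Perm (Fin n)) := by
          rw [← swap_apply_apply, swap_apply_of_ne_of_ne hab hac, swap_apply_left]
        rw [swap_inv] at f1 f2
        calc swap b c * (swap a c * swap a b) * swap b c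
            = swap b c * swap a c * (swap b c * swap b c) * swap a b * swap b c := by rw [swap_mul_self]; group
          _ = (swap b c * swap a c * swap b c) * (swap b c * swap a b * swap b c) := by group
          _ = _ := by rw [f1, f2]
      rw [← e2]; group
  obtain ⟨g', hg', e'⟩ := hle hg
  rwa [← Subtype.ext e']

end Cfsg.Lib.SLnPres
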